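import Mathlib

/-!
The normalizer of the three commuting three-cycles of the alternating group of degree nine, and the
centralizer of one of them.
-/

set_option autoImplicit false

namespace Cfsg.Agent.A9Local

open Equiv

/-- The first three-cycle. -/
def c1 : Perm (Fin 9) := swap 0 1 * swap 1 2

/-- The second three-cycle. -/
def c2 : Perm (Fin 9) := swap 3 4 * swap 4 5

/-- The third three-cycle. -/
def c3 : Perm (Fin 9) := swap 6 7 * swap 7 8

/-- An element of order three permuting the three cycles. -/
def tp : Perm (Fin 9) := swap 0 3 * swap 3 6 * (swap 1 4 * swap 4 7) * (swap 2 5 * swap 5 8)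

/-- The group of the three cycles. -/
def J0 : Subgroup (Perm (Fin 9)) :=
  Subgroup.closure {swap (0 : Fin 9) 1 * swap 1 2, swap (3 : Fin 9) 4 * swap 4 5, swap (6 : Fin 9) 7 * swap 7 8}

/-- The model of `N(J)`. -/
abbrev HM : Type := ↥(alternatingGroup (Fin 9) ⊓ Subgroup.normalizer (J0 : Set (Perm (Fin 9))))

/-- The model of the centralizer of the first three-cycle. -/
abbrev CM : Type := ↥(alternatingGroup (Fin 9) ⊓ Subgroup.centralizer ({c1} : Set (Perm (Fin 9))))

/-- The number of fixed points, less one. -/
def deg8 (p : Perm (Fin 9)) : ℤ := ((Finset.univ.filter fun i => p i = i).card : ℤ) - 1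

end Cfsg.Agent.A9Local
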