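import Mathlib
import Cfsg.Prelude.Def_CaseTheorems
import Cfsg.Prelude.Def_Characters
import Cfsg.Agent.Lib.A9Local.Model

/-!
The data of the three-local characterization of the alternating group of degree nine.
-/

set_option autoImplicit false

namespace Cfsg.Agent.A9Local

open Subgroup

universe u

/-- `N(J)` is the model and the centralizers of its elements of order three have no normal subgroups of
order prime to three. -/
structure Base (G : Type u) [Group G] where
  /-- The embedding of the model. -/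
  ι : HM →* G
  inj : Function.Injective ι
  norm : ∀ g : G, g ∈ ι.range ↔ ∀ h : HM, (h : Equiv.Perm (Fin 9)) ∈ J0 →
    ∃ h' : HM, (h' : Equiv.Perm (Fin 9)) ∈ J0 ∧ g * ι h * g⁻¹ = ι h'
  cores : ∀ h : HM, orderOf h = 3 → Cfsg.pPrimeCore 3 (centralizer ({ι h} : Set G)) = ⊥

/-- The centralizer of the first three-cycle is `3 × A₆`, glued to `N(J)`. -/
structure Full {G : Type u} [Group G] (B : Base G) where
  /-- The embedding of the model of the centralizer. -/
  κ : CM →* G
  inj : Function.Injective κ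
  agree : ∀ (h : HM) (k : CM), (h : Equiv.Perm (Fin 9)) = (k : Equiv.Perm (Fin 9)) → B.ι h = κ k
  cent : ∀ (h : HM), (h : Equiv.Perm (Fin 9)) = c1 → ∀ g : G, Commute g (B.ι h) ↔ g ∈ κ.range

/-- What part B gives in the case of the alternating group. -/
structure Eight {G : Type u} [Group G] {B : Base G} (F : Full B) (χ : G → ℂ) : Prop where
  irr : Cfsg.IsIrrCharacter G χ
  deg : χ 1 = 8
  onH : ∀ h : HM, 3 ∣ orderOf h → χ (B.ι h) = (deg8 (h : Equiv.Perm (Fin 9)) : ℂ)
  onC : ∀ k : CM, 3 ∣ orderOf k → χ (F.κ k) = (deg8 (k : Equiv.Perm (Fin 9)) : ℂ)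

end Cfsg.Agent.A9Local

namespace Cfsg.Agent.A9Local

open Subgroup

/-- What part A gives. -/
structure Facts {G : Type*} [Group G] (B : Base G) : Prop where
  sylow : ¬ 3 ∣ B.ι.range.index
  cent_b : ∀ h : HM, (h : Equiv.Perm (Fin 9)) = c1 * c2 → centralizer ({B.ι h} : Set G) ≤ B.ι.range
  cent_c : ∀ h : HM, (h : Equiv.Perm (Fin 9)) = c1 * c2 * c3 →
    centralizer ({B.ι h} : Set G) ≤ B.ι.range
  cent_a : (∀ h : HM, (h : Equiv.Perm (Fin 9)) = c1 → centralizer ({B.ι h} : Set G) ≤ B.ι.range) ∨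
    Nonempty (Full B)
  cent_t : (∀ h : HM, (h : Equiv.Perm (Fin 9)) = tp → centralizer ({B.ι h} : Set G) ≤ B.ι.range) ∨
    ∀ h h' : HM, (h : Equiv.Perm (Fin 9)) = tp → (h' : Equiv.Perm (Fin 9)) = c1 * c2 * c3 →
      IsConj (B.ι h) (B.ι h')

end Cfsg.Agent.A9Local
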