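import Cfsg.Agent.Lib.SelfNine.Values
import Cfsg.Agent.Lib.Characters.Inner
import Cfsg.Agent.Lib.Characters.Kernel
import Cfsg.Agent.BlocksChars.ClassAlg

/-!
# A linear character from three classes of elements of order three

`u 0`, `u 1`, `u 2` are real, pairwise non-conjugate, of order three with centralizer of order nine, and
no two conjugates of `u 0` multiply to a conjugate of `u 1`. The three columns of the character table
have integral entries congruent to the degrees mod 3, so their orthogonality leaves five rows besides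
the trivial one, and the class equation forces one of those to be linear with value one on all three.
-/

set_option autoImplicit false
set_option linter.style.haveILetI false

namespace Cfsg.Agent.A9Local.LineChar

open Subgroup Cfsg.Agent.Characters Cfsg.Agent.BlocksChars
open scoped ComplexConjugate

universe u

theorem two_support {ι : Type*} [DecidableEq ι] (s : Finset ι) (f : ι → ℤ) (h : ∑ x ∈ s, f x ^ 2 = 2) :
    ∃ i j, i ≠ j ∧ i ∈ s ∧ j ∈ s ∧ (f i = 1 ∨ f i = -1) ∧ (f j = 1 ∨ f j = -1) ∧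
      ∀ x ∈ s, x ≠ i → x ≠ j → f x = 0 := by
  have hsmall : ∀ x ∈ s, f x = 0 ∨ f x = 1 ∨ f x = -1 := by
    intro x hx
    have h1 := Finset.single_le_sum (f := fun x => f x ^ 2) (fun y _ => sq_nonneg _) hx
    simp only [h] at h1
    have h2 : -1 ≤ f x ∧ f x ≤ 1 := ⟨by nlinarith, by nlinarith⟩
    omega
  have hcard : ((s.filter fun x => f x ≠ 0).card : ℤ) = 2 := by
    rw [← h, ← Finset.sum_filter_of_ne (p := fun x => f x ≠ 0) (fun x _ hx e => hx (by rw [e]; rfl))]
    rw [Finset.sum_congr rfl (g := fun _ => (1 : ℤ)) fun x hx => by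
      obtain ⟨hx1, hx2⟩ := Finset.mem_filter.1 hx
      rcases (hsmall x hx1).resolve_left hx2 with e | e <;> rw [e] <;> norm_num]
    simp
  obtain ⟨i, j, hij, e⟩ := Finset.card_eq_two.1 (show (s.filter fun x => f x ≠ 0).card = 2 by exact_mod_cast hcard)
  have hi : i ∈ s.filter fun x => f x ≠ 0 := by simp [e]
  have hj : j ∈ s.filter fun x => f x ≠ 0 := by simp [e]
  simp only [Finset.mem_filter] at hi hj
  refine ⟨i, j, hij, hi.1, hj.1, (hsmall i hi.1).resolve_left hi.2, (hsmall j hj.1).resolve_left hj.2,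
    fun x hx hxi hxj => ?_⟩
  by_contra hne
  have hm : x ∈ s.filter fun x => f x ≠ 0 := Finset.mem_filter.2 ⟨hx, hne⟩
  rw [e] at hm
  simp [hxi, hxj] at hm

theorem degrees {f h g : ℕ} {α β σ : ℤ} (hf : 0 < f) (hh : 0 < h) (hg : 0 < g)
    (hα : α = 1 ∨ α = -1) (hβ : β = 1 ∨ β = -1) (hσ : σ = 1 ∨ σ = -1)
    (hD : 1 + α * f + β * h = 0)
    (hT : (1 : ℚ) + (α : ℚ) / f + (β : ℚ) / h - 3 * (σ : ℚ) / g = 0) :
    (f = 1 ∧ α = 1) ∨ (h = 1 ∧ β = 1) := by
  have hTz : (f : ℤ) * h * g + α * h * g + β * f * g - 3 * σ * f * h = 0 := by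
    have hf' : (f : ℚ) ≠ 0 := by positivity
    have hh' : (h : ℚ) ≠ 0 := by positivity
    have hg' : (g : ℚ) ≠ 0 := by positivity
    field_simp at hT
    have : (((f : ℤ) * h * g + α * h * g + β * f * g - 3 * σ * f * h : ℤ) : ℚ) = 0 := by
      push_cast; linear_combination hT
    exact_mod_cast this
  have key : ∀ x y : ℕ, 0 < x → y = x + 1 → (x : ℤ) * y * g + y * g - x * g - 3 * σ * x * y = 0 → x = 1 := by
    intro x y hx hy e
    subst hy
    push_cast at e
    have hgz : (0 : ℤ) < g := by exact_mod_cast hg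
    have hxz : (0 : ℤ) < x := by exact_mod_cast hx
    have e' : (g : ℤ) * (x * x + x + 1) = 3 * σ * (x * (x + 1)) := by linear_combination e
    have hpos : (0 : ℤ) < (g : ℤ) * (x * x + x + 1) := by positivity
    have hσ1 : σ = 1 := by
      rcases hσ with h | h
      · exact h
      · exfalso
        rw [h] at e'
        have : (0 : ℤ) < (x : ℤ) * (x + 1) := by positivity
        linarith
    rw [hσ1] at e'
    have h3 : (g : ℤ) < 3 := by
      by_contra h
      push Not at h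
      have : (3 : ℤ) * (x * x + x + 1) ≤ g * (x * x + x + 1) := mul_le_mul_of_nonneg_right h (by positivity)
      linarith
    by_contra hx1
    have hx2 : (2 : ℤ) ≤ x := by omega
    have hxx : (2 : ℤ) * x ≤ x * x := mul_le_mul_of_nonneg_right hx2 hxz.le
    rcases (show (g : ℤ) = 1 ∨ (g : ℤ) = 2 by omega) with h | h <;> rw [h] at e' <;> linarith
  rcases hα with a | a <;> rcases hβ with b | b <;> subst a <;> subst b
  · omega
  · exact Or.inl ⟨key f h hf (by omega) (by linear_combination hTz), rfl⟩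
  · exact Or.inr ⟨key h f hh (by omega) (by linear_combination hTz), rfl⟩
  · exfalso
    omega

/-- The arithmetic of the three columns. -/
theorem columns {ι : Type*} [Fintype ι] [DecidableEq ι] (o : ι) (v0 v1 v2 : ι → ℤ) (d : ι → ℕ)
    (hd : ∀ x, 0 < d x) (ho : v0 o = 1 ∧ v1 o = 1 ∧ v2 o = 1 ∧ d o = 1)
    (h0 : ∀ x, (3 : ℤ) ∣ d x - v0 x) (h1 : ∀ x, (3 : ℤ) ∣ d x - v1 x) (h2 : ∀ x, (3 : ℤ) ∣ d x - v2 x)
    (s00 : ∑ x, v0 x * v0 x = 9) (s11 : ∑ x, v1 x * v1 x = 9) (s22 : ∑ x, v2 x * v2 x = 9)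
    (s01 : ∑ x, v0 x * v1 x = 0) (s02 : ∑ x, v0 x * v2 x = 0) (s12 : ∑ x, v1 x * v2 x = 0)
    (d0 : ∑ x, (d x : ℤ) * v0 x = 0) (d1 : ∑ x, (d x : ℤ) * v1 x = 0) (d2 : ∑ x, (d x : ℤ) * v2 x = 0)
    (hT : ∑ x, ((v0 x * v0 x * v1 x : ℤ) : ℚ) / (d x : ℚ) = 0) :
    ∃ x, x ≠ o ∧ d x = 1 ∧ v0 x = 1 ∧ v1 x = 1 ∧ v2 x = 1 := by
  choose k0 hk0 using h0
  choose k1 hk1 using h1
  choose k2 hk2 using h2
  let a : ι → ℤ := fun x => (d x : ℤ) - k0 x - k1 x - k2 x
  let b : ι → ℤ := fun x => k0 x - k1 x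
  let c : ι → ℤ := fun x => k1 x - k2 x
  have e0 : ∀ x, v0 x = a x - (2 * b x + c x) := fun x => by
    simp only [a, b, c]; linarith [hk0 x, hk1 x, hk2 x]
  have e1 : ∀ x, v1 x = a x + b x - c x := fun x => by
    simp only [a, b, c]; linarith [hk0 x, hk1 x, hk2 x]
  have e2 : ∀ x, v2 x = a x + b x + 2 * c x := fun x => by
    simp only [a, b, c]; linarith [hk0 x, hk1 x, hk2 x]
  obtain ⟨o0, o1, o2, od⟩ := ho
  have oa : a o = 1 := by linarith [e0 o, e1 o, e2 o]
  have ob : b o = 0 := by linarith [e0 o, e1 o, e2 o]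
  have oc : c o = 0 := by linarith [e0 o, e1 o, e2 o]
  set s := Finset.univ.erase o with hs
  have split : ∀ f : ι → ℤ, ∑ x, f x = f o + ∑ x ∈ s, f x := fun f =>
    (Finset.add_sum_erase _ f (Finset.mem_univ o)).symm
  have quad : ∀ (f : ι → ℤ) (A B C D E F : ℤ), (∀ x, 9 * f x = A * (v0 x * v0 x) + B * (v1 x * v1 x) +
      C * (v2 x * v2 x) + D * (v0 x * v1 x) + E * (v0 x * v2 x) + F * (v1 x * v2 x)) →
      9 * ∑ x, f x = 9 * (A + B + C) := by
    intro f A B C D E F h
    rw [Finset.mul_sum, Finset.sum_congr rfl fun x _ => h x]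
    simp only [Finset.sum_add_distrib, ← Finset.mul_sum, s00, s11, s22, s01, s02, s12]
    ring
  have qaa : ∑ x ∈ s, a x ^ 2 = 2 := by
    have h := quad (fun x => a x ^ 2) 1 1 1 2 2 2 fun x => by simp only [e0, e1, e2]; ring
    rw [split, oa] at h; linarith
  have qbb : ∑ x ∈ s, b x ^ 2 = 2 := by
    have h := quad (fun x => b x ^ 2) 1 1 0 (-2) 0 0 fun x => by simp only [e0, e1, e2]; ring
    rw [split, ob] at h; linarith
  have qcc : ∑ x ∈ s, c x ^ 2 = 2 := by
    have h := quad (fun x => c x ^ 2) 0 1 1 0 0 (-2) fun x => by simp only [e0, e1, e2]; ring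
    rw [split, oc] at h; linarith
  have qbc : ∑ x ∈ s, b x * c x = -1 := by
    have h := quad (fun x => b x * c x) 0 (-1) 0 1 (-1) 1 fun x => by simp only [e0, e1, e2]; ring
    rw [split, ob, oc] at h; linarith
  have qab : ∑ x ∈ s, a x * b x = 0 := by
    have h := quad (fun x => a x * b x) (-1) 1 0 0 (-1) 1 fun x => by simp only [e0, e1, e2]; ring
    rw [split, oa, ob] at h; linarith
  have qac : ∑ x ∈ s, a x * c x = 0 := by
    have h := quad (fun x => a x * c x) 0 (-1) 1 (-1) 1 0 fun x => by simp only [e0, e1, e2]; ring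
    rw [split, oa, oc] at h; linarith
  obtain ⟨p, q, hpq, hp, hq, bp, bq, bz⟩ := two_support s b qbb
  obtain ⟨r, t, hrt, hr, ht, cr, ct, cz⟩ := two_support s c qcc
  -- the supports meet once
  obtain ⟨i, j, l, hij, hil, hjl, hi, hj, hl, bi, bj, cl, hcib, hb0, hc0⟩ :
      ∃ i j l, i ≠ j ∧ i ≠ l ∧ j ≠ l ∧ i ∈ s ∧ j ∈ s ∧ l ∈ s ∧ (b i = 1 ∨ b i = -1) ∧ (b j = 1 ∨ b j = -1) ∧
        (c l = 1 ∨ c l = -1) ∧ c i = -b i ∧ (∀ x ∈ s, x ≠ i → x ≠ j → b x = 0) ∧
        (∀ x ∈ s, x ≠ i → x ≠ l → c x = 0) := by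
    have hbc : b p * c p + b q * c q = -1 := by
      rw [← qbc]
      refine (Finset.sum_eq_add (f := fun x => b x * c x) p q hpq (fun x hx hxn => ?_) (fun h => absurd hp h) (fun h => absurd hq h)).symm
      rw [bz x hx hxn.1 hxn.2, zero_mul]
    by_cases hcp : c p = 0
    · rw [hcp, mul_zero, zero_add] at hbc
      have hcq : c q = -b q := by rcases bq with e | e <;> rw [e] at hbc ⊢ <;> omega
      have hq' : q = r ∨ q = t := by
        by_contra h; push Not at h
        have := cz q hq h.1 h.2; omega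
      have hp' : p ≠ r ∧ p ≠ t := ⟨fun e => by subst e; omega, fun e => by subst e; omega⟩
      rcases hq' with rfl | rfl
      · exact ⟨q, p, t, hpq.symm, hrt, hp'.2, hq, hp, ht, bq, bp, ct, hcq, fun x hx h h' => bz x hx h' h, cz⟩
      · exact ⟨q, p, r, hpq.symm, hrt.symm, hp'.1, hq, hp, hr, bq, bp, cr, hcq, fun x hx h h' => bz x hx h' h,
          fun x hx h h' => cz x hx h' h⟩
    · have hp' : p = r ∨ p = t := by
        by_contra h; push Not at h
        exact hcp (cz p hp h.1 h.2)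
      have hcp' : c p = 1 ∨ c p = -1 := by rcases hp' with rfl | rfl <;> assumption
      have hcq0 : c q = 0 := by
        by_contra hcq
        have hcq' : c q = 1 ∨ c q = -1 := by
          by_contra h
          have : q ≠ r ∧ q ≠ t := ⟨fun e => h (e ▸ cr), fun e => h (e ▸ ct)⟩
          exact hcq (cz q hq this.1 this.2)
        rcases bp with e | e <;> rcases bq with e' | e' <;> rcases hcp' with e'' | e'' <;>
          rcases hcq' with e3 | e3 <;> rw [e, e', e'', e3] at hbc <;> omega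
      rw [hcq0, mul_zero, add_zero] at hbc
      have hcp'' : c p = -b p := by rcases bp with e | e <;> rw [e] at hbc ⊢ <;> omega
      have hq' : q ≠ r ∧ q ≠ t := ⟨fun e => by subst e; omega, fun e => by subst e; omega⟩
      rcases hp' with rfl | rfl
      · exact ⟨p, q, t, hpq, hrt, hq'.2, hp, hq, ht, bp, bq, ct, hcp'', bz, cz⟩
      · exact ⟨p, q, r, hpq, hrt.symm, hq'.1, hp, hq, hr, bp, bq, cr, hcp'', bz,
          fun x hx h h' => cz x hx h' h⟩
  have hab : a i * b i + a j * b j = 0 := by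
    rw [← qab]
    refine (Finset.sum_eq_add (f := fun x => a x * b x) i j hij (fun x hx hxn => ?_) (fun h => absurd hi h) (fun h => absurd hj h)).symm
    rw [hb0 x hx hxn.1 hxn.2, mul_zero]
  have hac : a i * c i + a l * c l = 0 := by
    rw [← qac]
    refine (Finset.sum_eq_add (f := fun x => a x * c x) i l hil (fun x hx hxn => ?_) (fun h => absurd hi h) (fun h => absurd hl h)).symm
    rw [hc0 x hx hxn.1 hxn.2, mul_zero]
  obtain ⟨m, n, hmn, hm, hn, am, an, az⟩ := two_support s a qaa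
  have hai : a i = 0 := by
    by_contra hne
    have hj0 : a j ≠ 0 := fun e => hne (by rw [e] at hab; rcases bi with e' | e' <;> rw [e'] at hab <;> omega)
    have hl0 : a l ≠ 0 := fun e => hne (by
      rw [e, hcib] at hac; rcases bi with e' | e' <;> rw [e'] at hac <;> omega)
    have hmem : ∀ x ∈ s, a x ≠ 0 → x = m ∨ x = n := fun x hx hx0 => by
      by_contra h; push Not at h; exact hx0 (az x hx h.1 h.2)
    rcases hmem i hi hne with rfl | rfl <;> rcases hmem j hj hj0 with rfl | rfl <;>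
      rcases hmem l hl hl0 with rfl | rfl <;> contradiction
  have haj : a j = 0 := by rw [hai] at hab; rcases bj with e | e <;> rw [e] at hab <;> omega
  have hal : a l = 0 := by rw [hai] at hac; rcases cl with e | e <;> rw [e] at hac <;> omega
  have hm' : m ≠ i ∧ m ≠ j ∧ m ≠ l :=
    ⟨fun e => by subst e; omega, fun e => by subst e; omega, fun e => by subst e; omega⟩
  have hn' : n ≠ i ∧ n ≠ j ∧ n ≠ l :=
    ⟨fun e => by subst e; omega, fun e => by subst e; omega, fun e => by subst e; omega⟩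
  have bm := hb0 m hm hm'.1 hm'.2.1
  have cm := hc0 m hm hm'.1 hm'.2.2
  have bn := hb0 n hn hn'.1 hn'.2.1
  have cn := hc0 n hn hn'.1 hn'.2.2
  have bl := hb0 l hl hil.symm hjl.symm
  have cj := hc0 j hj hij.symm hjl
  have hno : m ≠ o ∧ n ≠ o := ⟨(Finset.mem_erase.1 hm).1, (Finset.mem_erase.1 hn).1⟩
  have hsum : ∀ {M : Type} [AddCommMonoid M] (f : ι → M),
      (∀ x ∈ s, v0 x = 0 → v1 x = 0 → v2 x = 0 → f x = 0) →
      ∑ x, f x = f o + (f i + (f j + (f l + (f m + f n)))) := by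
    intro M _ f hf
    rw [← Finset.add_sum_erase _ f (Finset.mem_univ o)]
    congr 1
    rw [← Finset.sum_subset (s₁ := ({i, j, l, m, n} : Finset ι)) (s₂ := s)]
    · rw [Finset.sum_insert (by simp [hij, hil, hm'.1.symm, hn'.1.symm]),
        Finset.sum_insert (by simp [hjl, hm'.2.1.symm, hn'.2.1.symm]),
        Finset.sum_insert (by simp [hm'.2.2.symm, hn'.2.2.symm]), Finset.sum_pair hmn]
    · simp [Finset.insert_subset_iff, hi, hj, hl, hm, hn]
    · intro x hx hxn
      simp only [Finset.mem_insert, Finset.mem_singleton, not_or] at hxn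
      obtain ⟨hxi, hxj, hxl, hxm, hxn'⟩ := hxn
      refine hf x hx ?_ ?_ ?_ <;>
        simp [e0, e1, e2, az x hx hxm hxn', hb0 x hx hxi hxj, hc0 x hx hxi hxl]
  have D : ∀ v : ι → ℤ, (∀ x, v0 x = 0 → v1 x = 0 → v2 x = 0 → v x = 0) →
      ∑ x, (d x : ℤ) * v x = (d o : ℤ) * v o + (d i * v i + (d j * v j + (d l * v l + (d m * v m + d n * v n)))) :=
    fun v hv => hsum (fun x => (d x : ℤ) * v x) fun x _ z0 z1 z2 => by rw [hv x z0 z1 z2, mul_zero]
  rw [D v0 fun x h _ _ => h] at d0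
  rw [D v1 fun x _ h _ => h] at d1
  rw [D v2 fun x _ _ h => h] at d2
  rw [hsum (fun x => ((v0 x * v0 x * v1 x : ℤ) : ℚ) / (d x : ℚ)) fun x _ z0 _ _ => by simp [z0]] at hT
  simp only [e0, e1, e2, oa, ob, oc, od, hai, haj, hal, bl, cj, hcib, bm, cm, bn, cn] at d0 d1 d2 hT
  push_cast at d0 d1 d2
  have tj : (d j : ℤ) * b j = -((d i : ℤ) * b i) := by linarith
  have tl : (d l : ℤ) * c l = (d i : ℤ) * b i := by linarith
  have hdji : d j = d i ∧ b j = -b i := by
    rcases bi with e | e <;> rcases bj with e' | e' <;> rw [e, e'] at tj ⊢ <;>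
      first | (have := hd i; have := hd j; omega) | (constructor <;> omega)
  have hdli : d l = d i ∧ c l = b i := by
    rcases bi with e | e <;> rcases cl with e' | e' <;> rw [e, e'] at tl ⊢ <;>
      first | (have := hd i; have := hd l; omega) | (constructor <;> omega)
  rw [hdji.1, hdji.2, hdli.1, hdli.2] at hT
  have hD : 1 + a m * d m + a n * d n = 0 := by linarith
  have hdeg := degrees (hd m) (hd n) (hd i) am an bi hD (by
    rcases bi with e | e <;> rw [e] at hT ⊢ <;> push_cast at hT ⊢ <;>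
      rcases am with e' | e' <;> rcases an with e'' | e'' <;> rw [e', e''] at hT ⊢ <;>
      push_cast at hT ⊢ <;> linear_combination hT)
  rcases hdeg with ⟨h, h'⟩ | ⟨h, h'⟩
  · exact ⟨m, hno.1, h, by rw [e0, h', bm, cm]; rfl, by rw [e1, h', bm, cm]; rfl, by rw [e2, h', bm, cm]; rfl⟩
  · exact ⟨n, hno.2, h, by rw [e0, h', bn, cn]; rfl, by rw [e1, h', bn, cn]; rfl, by rw [e2, h', bn, cn]; rfl⟩

/-- A nontrivial linear character equal to one at the three elements. -/
theorem exists_linear {X : Type u} [Group X] [Finite X] (w : Fin 3 → X) (hne1 : ∀ i, w i ≠ 1)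
    (hcube : ∀ i, w i ^ 3 = 1) (hreal : ∀ i, IsConj (w i) (w i)⁻¹)
    (hcard : ∀ i, Nat.card (centralizer ({w i} : Set X)) = 9)
    (hne : ∀ i j, i ≠ j → ¬ IsConj (w i) (w j))
    (htri : ∀ x y, IsConj (w 0) x → IsConj (w 0) y → ¬ IsConj (w 1) (x * y)) :
    ∃ η : X →* ℂˣ, η ≠ 1 ∧ ∀ i, η (w i) = 1 := by
  classical
  haveI := Fintype.ofFinite X
  haveI := Fintype.ofFinite (Cfsg.IrrCharacter X)
  have hval : ∀ (χ : Cfsg.IrrCharacter X) (i : Fin 3), ∃ (d : ℕ) (a : ℤ),
      (χ : X → ℂ) 1 = (d : ℂ) ∧ (χ : X → ℂ) (w i) = (a : ℂ) ∧ (3 : ℤ) ∣ (d : ℤ) - a := fun χ i =>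
    SelfNine.three_value (irr_isCharacter χ) (hcube i) (by
      rw [show w i ^ 2 = (w i)⁻¹ from eq_inv_of_mul_eq_one_left (by rw [← pow_succ, hcube i])]
      exact (ClassAlg.classFun_eq_of_isConj (irr_isClassFunction χ) (hreal i)).symm)
  choose D v hD hv hdvd using hval
  let d : Cfsg.IrrCharacter X → ℕ := fun χ => D χ 0
  have hd : ∀ χ i, D χ i = d χ := fun χ i => Nat.cast_injective (R := ℂ) ((hD χ i).symm.trans (hD χ 0))
  have hpos : ∀ χ, 0 < d χ := fun χ => Nat.pos_of_ne_zero fun h => irr_one_ne_zero χ.2 (by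
    rw [hD χ 0]; exact_mod_cast h)
  have horth : ∀ i j, ∑ χ, v χ i * v χ j = if i = j then 9 else 0 := by
    intro i j
    have h := second_orthogonality (w i) (w j)
    simp only [hv, map_intCast] at h
    by_cases e : i = j
    · subst e
      rw [if_pos (IsConj.refl _), hcard] at h
      rw [if_pos rfl]
      exact_mod_cast h
    · rw [if_neg (hne i j e)] at h
      rw [if_neg e]
      exact_mod_cast h
  have hdeg : ∀ i, ∑ χ, (d χ : ℤ) * v χ i = 0 := by
    intro i
    have h := second_orthogonality (1 : X) (w i)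
    rw [if_neg (fun e => hne1 i (isConj_one_right.1 e))] at h
    simp only [hv, hD _ 0, map_intCast] at h
    exact_mod_cast h
  have hT : ∑ χ, ((v χ 0 * v χ 0 * v χ 1 : ℤ) : ℚ) / (d χ : ℚ) = 0 := by
    have h := ClassAlg.conv_eq_sum (ClassAlg.classInd_isClassFunction (w 0))
      (ClassAlg.classInd_isClassFunction (w 0)) (w 1)
    have hemp : IsEmpty {g : X // IsConj (w 0) g ∧ IsConj (w 0) (g⁻¹ * w 1)} :=
      ⟨fun g => htri g.1 (g.1⁻¹ * w 1) g.2.1 g.2.2 (by rw [mul_inv_cancel_left])⟩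
    rw [ClassAlg.conv_classInd, Nat.card_eq_zero.2 (Or.inl hemp), Nat.cast_zero, mul_zero] at h
    have hz : (ClassAlg.classSize (w 0) : ℂ) ^ 2 *
        ((∑ χ, ((v χ 0 * v χ 0 * v χ 1 : ℤ) : ℚ) / (d χ : ℚ) : ℚ) : ℂ) = 0 := by
      refine Eq.trans ?_ h.symm
      push_cast
      rw [Finset.mul_sum]
      refine Finset.sum_congr rfl fun χ _ => ?_
      simp only [ClassAlg.omega_classInd, hv, map_intCast, hD χ 0, d]
      have : ((D χ 0 : ℕ) : ℂ) ≠ 0 := by exact_mod_cast (hpos χ).ne'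
      field_simp
    have hs : (ClassAlg.classSize (w 0) : ℂ) ^ 2 ≠ 0 := by
      refine pow_ne_zero 2 (Nat.cast_ne_zero.2 fun h0 => ?_)
      have := ClassAlg.classSize_mul_card_centralizer (w 0)
      rw [h0, zero_mul] at this
      exact Nat.card_pos.ne' this.symm
    exact Rat.cast_eq_zero.1 ((mul_eq_zero.1 hz).resolve_left hs)
  have ho : ∀ i, v (trivIrr X) i = 1 := fun i => by
    have h := hv (trivIrr X) i
    simp only [trivIrr_coe] at h
    exact_mod_cast h.symm
  have hod : d (trivIrr X) = 1 := by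
    have h := hD (trivIrr X) 0
    simp only [trivIrr_coe] at h
    exact_mod_cast h.symm
  obtain ⟨χ, hχ, h1, a0, a1, a2⟩ := columns (trivIrr X) (v · 0) (v · 1) (v · 2) d hpos
    ⟨ho 0, ho 1, ho 2, hod⟩ (fun χ => hdvd χ 0) (fun χ => hd χ 1 ▸ hdvd χ 1) (fun χ => hd χ 2 ▸ hdvd χ 2)
    (horth 0 0) (horth 1 1) (horth 2 2) (horth 0 1) (horth 0 2) (horth 1 2) (hdeg 0) (hdeg 1) (hdeg 2) hT
  have hone : (χ : X → ℂ) 1 = 1 := by rw [hD χ 0]; exact_mod_cast h1
  refine ⟨linearOfDegreeOne (irr_isCharacter χ) hone, fun e => hχ (Subtype.ext (funext fun g => ?_)), fun i => ?_⟩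
  · have h := congrArg (fun f : X →* ℂˣ => (f g : ℂ)) e
    simpa using h
  · refine Units.ext ?_
    rw [linearOfDegreeOne_apply, hv]
    fin_cases i <;> simp [a0, a1, a2]

end Cfsg.Agent.A9Local.LineChar
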