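import Cfsg.Agent.Lib.A9Local.LocalModel
import Cfsg.Agent.Lib.Perm.IndexSix

/-!
# The centralizer of a three-cycle in the alternating group of degree nine

It is the product of the group of order three with the alternating group of degree six; and an
isomorphism with the alternating group of degree six can be adjusted on a Sylow `3`-normalizer.
-/

set_option autoImplicit false
set_option linter.style.haveILetI false
set_option maxRecDepth 100000
set_option synthInstance.maxSize 10000

namespace Cfsg.Agent.A9Local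

open Equiv Cfsg.Agent.NineSym

/-- Six points. -/
abbrev S6 : Type := Perm (Fin 6)

/-- The first three-cycle on six points. -/
def r6 : S6 := swap 0 1 * swap 1 2

/-- The second three-cycle on six points. -/
def s6 : S6 := swap 3 4 * swap 4 5

/-- An element of order four normalizing both. -/
def i6 : S6 := swap 0 3 * (swap 1 4 * swap 4 2 * swap 2 5)

theorem six_facts : r6 ^ 3 = 1 ∧ s6 ^ 3 = 1 ∧ r6 * s6 = s6 * r6 ∧ i6 * r6 * i6⁻¹ = s6 ∧
    i6 * s6 * i6⁻¹ = r6⁻¹ ∧ Perm.sign r6 = 1 ∧ Perm.sign s6 = 1 ∧ Perm.sign i6 = 1 := by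
  refine ⟨by decide +kernel, by decide +kernel, by decide +kernel, by decide +kernel, by decide +kernel,
    ?_, ?_, ?_⟩ <;> simp [r6, s6, i6]

theorem six_shift : ∀ a b : Fin 3, ∃ c d : Fin 3,
    (r6 ^ c.val * s6 ^ d.val) * (i6 * (r6 ^ a.val * s6 ^ b.val)) * (r6 ^ c.val * s6 ^ d.val)⁻¹ = i6 := by
  decide +kernel

section three

variable {Ω : Type*} [Fintype Ω] [DecidableEq Ω]

theorem three_points {s : Perm Ω} (hs : s.cycleType = {3}) {x : Ω} (hx : s x ≠ x) :
    s (s (s x)) = x ∧ s (s x) ≠ x ∧ ∀ y, s y ≠ y → y = x ∨ y = s x ∨ y = s (s x) := by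
  have h3 : s ^ 3 = 1 := by
    haveI : Fact (Nat.Prime 3) := ⟨Nat.prime_three⟩
    exact Perm.pow_prime_eq_one_iff.2 fun c hc => by rw [hs] at hc; simpa using hc
  have e3 : s (s (s x)) = x := by
    have := congrArg (fun f : Perm Ω => f x) h3
    simpa [pow_succ] using this
  have hne : s (s x) ≠ x := fun e => hx (by rw [e] at e3; exact e3)
  refine ⟨e3, hne, fun y hy => ?_⟩
  have hsub : ({x, s x, s (s x)} : Finset Ω) = s.support := by
    refine Finset.eq_of_subset_of_card_le (fun z hz => ?_) ?_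
    · simp only [Finset.mem_insert, Finset.mem_singleton] at hz
      rw [Perm.mem_support]
      rcases hz with rfl | rfl | rfl
      · exact hx
      · exact fun e => hx (s.injective e)
      · exact fun e => hx (s.injective (s.injective e))
    · rw [← Perm.sum_cycleType, hs, Finset.card_insert_of_notMem (by simp [Ne.symm hx, Ne.symm hne]),
        Finset.card_pair (fun e => hx (s.injective e.symm))]
      rfl
  have := hsub.ge (Perm.mem_support.2 hy)
  simpa using this

theorem disjoint_of_comm {s t : Perm Ω} (hs : s.cycleType = {3}) (ht : t.cycleType = {3})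
    (hc : Commute s t) (h1 : t ≠ s) (h2 : t ≠ s * s) {x : Ω} (hx : s x ≠ x) : t x = x := by
  by_contra htx
  have hst : ∀ y, s (t y) = t (s y) := fun y => congrArg (fun f : Perm Ω => f y) hc.eq
  obtain ⟨e3, hne, hall⟩ := three_points hs hx
  obtain ⟨f3, fne, fall⟩ := three_points ht htx
  have hsupp : ∀ y, t y ≠ y → s y ≠ y := by
    intro y hy
    rcases fall y hy with rfl | rfl | rfl
    · exact hx
    · exact fun e => hx (t.injective (by rw [← hst, e]))
    · exact fun e => hx (t.injective (t.injective (by rw [← hst, ← hst, e])))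
  have hfix : ∀ y, s y = y → t y = y := fun y hy => by_contra fun h => hsupp y h hy
  rcases hall (t x) (fun e => hx (t.injective (by rw [← hst, e]))) with e | e | e
  · exact htx e
  · refine h1 (Equiv.ext fun y => ?_)
    by_cases hy : s y = y
    · rw [hfix y hy, hy]
    rcases hall y hy with rfl | rfl | rfl
    · exact e
    · rw [← hst, e]
    · rw [← hst, ← hst, e]
  · refine h2 (Equiv.ext fun y => ?_)
    by_cases hy : s y = y
    · rw [hfix y hy, Perm.mul_apply, hy, hy]
    rcases hall y hy with rfl | rfl | rfl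
    · exact e
    · rw [← hst, e, Perm.mul_apply]
    · rw [← hst, ← hst, e, Perm.mul_apply]

theorem types_of_cube (h6 : Fintype.card Ω = 6) {x : Perm Ω} (h3 : x ^ 3 = 1) (h1 : x ≠ 1) :
    x.cycleType = {3} ∨ x.cycleType = {3, 3} := by
  haveI : Fact (Nat.Prime 3) := ⟨Nat.prime_three⟩
  have hφ := Perm.cycleType_of_pow_prime_eq_one h3
  set k := x.cycleType.card with hk
  have hsum : 3 * k ≤ 6 := by
    have := Finset.card_le_univ x.support
    rw [← Perm.sum_cycleType, hφ, Multiset.sum_replicate, smul_eq_mul, h6] at this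
    omega
  rcases (show k = 0 ∨ k = 1 ∨ k = 2 by omega) with h | h | h <;> rw [h] at hφ
  · exact absurd (Perm.cycleType_eq_zero.1 hφ) h1
  · exact Or.inl hφ
  · exact Or.inr hφ

end three

theorem pair_conj {s t : S6} (hs : s.cycleType = {3}) (ht : t.cycleType = {3}) (hc : Commute s t)
    (h1 : t ≠ s) (h2 : t ≠ s * s) : ∃ π : S6, π * r6 * π⁻¹ = s ∧ π * s6 * π⁻¹ = t := by
  obtain ⟨a, ha⟩ : ∃ a, s a ≠ a := by
    by_contra h; push Not at h
    have : s = 1 := Equiv.ext h
    rw [this] at hs; simp at hs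
  obtain ⟨b, hb⟩ : ∃ b, t b ≠ b := by
    by_contra h; push Not at h
    have : t = 1 := Equiv.ext h
    rw [this] at ht; simp at ht
  have hd : ∀ y, s y ≠ y → t y = y := fun y hy => disjoint_of_comm hs ht hc h1 h2 hy
  obtain ⟨a3, a2, -⟩ := three_points hs ha
  obtain ⟨b3, b2, -⟩ := three_points ht hb
  have hsa : ∀ y ∈ [a, s a, s (s a)], s y ≠ y := by
    intro y hy
    simp only [List.mem_cons, List.not_mem_nil, or_false] at hy
    rcases hy with rfl | rfl | rfl
    · exact ha
    · exact fun e => ha (s.injective e)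
    · exact fun e => ha (s.injective (s.injective e))
  have htb : ∀ y ∈ [b, t b, t (t b)], t y ≠ y := by
    intro y hy
    simp only [List.mem_cons, List.not_mem_nil, or_false] at hy
    rcases hy with rfl | rfl | rfl
    · exact hb
    · exact fun e => hb (t.injective e)
    · exact fun e => hb (t.injective (t.injective e))
  have hnd : [a, s a, s (s a), b, t b, t (t b)].Nodup := by
    rw [show [a, s a, s (s a), b, t b, t (t b)] = [a, s a, s (s a)] ++ [b, t b, t (t b)] from rfl,
      List.nodup_append]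
    refine ⟨?_, ?_, fun y hy z hz e => htb y (e ▸ hz) (hd y (hsa y hy))⟩
    · simp [Ne.symm ha, Ne.symm a2, fun e => ha (s.injective (Eq.symm e))]
    · simp [Ne.symm hb, Ne.symm b2, fun e => hb (t.injective (Eq.symm e))]
  set f : Fin 6 → Fin 6 := ![a, s a, s (s a), b, t b, t (t b)] with hf
  have hinj : Function.Injective f := by
    intro i j hij
    have key : ∀ i : Fin 6, f i = [a, s a, s (s a), b, t b, t (t b)].get i := fun i => by fin_cases i <;> rfl
    rw [key, key] at hij
    exact (List.Nodup.injective_get hnd) hij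
  set π : S6 := Equiv.ofBijective f (Finite.injective_iff_bijective.1 hinj) with hπ
  have hp : ∀ i, π i = f i := fun i => rfl
  have hsfix : ∀ y ∈ [b, t b, t (t b)], s y = y := fun y hy => by_contra fun h => htb y hy (hd y h)
  refine ⟨π, mul_inv_eq_iff_eq_mul.2 (Equiv.ext fun i => ?_), mul_inv_eq_iff_eq_mul.2 (Equiv.ext fun i => ?_)⟩
  · have hr : ∀ i, r6 i = ![1, 2, 0, 3, 4, 5] i := by decide +kernel
    rw [Perm.mul_apply, Perm.mul_apply, hp, hp, hr]
    fin_cases i
    · rfl
    · rfl
    · exact a3.symm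
    · exact (hsfix b (by simp)).symm
    · exact (hsfix (t b) (by simp)).symm
    · exact (hsfix (t (t b)) (by simp)).symm
  · have hr : ∀ i, s6 i = ![0, 1, 2, 4, 5, 3] i := by decide +kernel
    rw [Perm.mul_apply, Perm.mul_apply, hp, hp, hr]
    fin_cases i
    · exact (hd a (hsa a (by simp))).symm
    · exact (hd (s a) (hsa (s a) (by simp))).symm
    · exact (hd (s (s a)) (hsa (s (s a)) (by simp))).symm
    · rfl
    · rfl
    · exact b3.symm

/-- An automorphism exchanging the two classes of elements of order three. -/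
theorem exists_exotic : ∃ φ : S6 ≃* S6, (∀ g, Perm.sign (φ g) = Perm.sign g) ∧
    ∀ x : S6, x.cycleType = {3, 3} → (φ x).cycleType = {3} := by
  have h6 : Fintype.card (Fin 6) = 6 := Fintype.card_fin 6
  obtain ⟨H, hH, htr⟩ := Cfsg.Agent.Perm.IndexSix.exists_transitive (Ω := Fin 6) h6
  obtain ⟨φ, x, hφ⟩ := Cfsg.Agent.Perm.IndexSix.exists_aut h6 hH
  have hnp : ¬ Cfsg.Agent.Perm.IndexSix.Pres φ := fun hP => by
    obtain ⟨z, hz⟩ := Cfsg.Agent.Perm.IndexDegree.eq_stabilizer_of_aut (by omega) (hH.trans h6.symm) φ hP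
      (Cfsg.Agent.Perm.IndexSix.Pres.symm h6 hP) x hφ
    exact Cfsg.Agent.Perm.IndexSix.not_conj_stabilizer h6 htr z hz
  have hsgn : ∀ g, Perm.sign (φ g) = Perm.sign g := by
    have h := Perm.eq_sign_of_surjective_hom (s := (Perm.sign : S6 →* ℤˣ).comp φ.toMonoidHom)
      ((Perm.sign_surjective (Fin 6)).comp φ.surjective)
    exact fun g => congrArg (fun f : S6 →* ℤˣ => f g) h
  have hr : r6.cycleType = {3} := by
    rw [show r6.cycleType = {3} ↔ r6.IsThreeCycle from Iff.rfl]
    exact show (swap (0 : Fin 6) 1 * swap 1 2).IsThreeCycle from (swap_comm (0 : Fin 6) 1) ▸ Perm.isThreeCycle_swap_mul_swap_same (a := (1 : Fin 6)) (b := 0) (c := 2) (by decide) (by decide) (by decide)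
  have hnr : (φ r6).cycleType ≠ {3} := by
    intro hcy
    have hu : (φ (swap 3 4)).cycleType = {2, 2, 2} :=
      Cfsg.Agent.Perm.IndexSix.exotic_map h6 hnp ⟨3, 4, by decide, rfl⟩
    have hc : Commute (φ r6) (φ (swap 3 4)) := (show Commute r6 (swap 3 4) from (by decide +kernel : r6 * swap 3 4 = swap 3 4 * r6)).map φ
    set u := φ (swap 3 4) with hu'
    have hfix : ∀ y, u y ≠ y := by
      intro y hy
      have hsum : u.support.card = 6 := by rw [← Perm.sum_cycleType, hu]; rfl
      have : u.support = Finset.univ := Finset.eq_univ_of_card _ (by rw [hsum, h6])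
      exact (Perm.mem_support.1 (this ▸ Finset.mem_univ y)) hy
    have hinv : ∀ y, u (u y) = y := by
      haveI : Fact (Nat.Prime 2) := ⟨Nat.prime_two⟩
      have h2 : u ^ 2 = 1 := Perm.pow_prime_eq_one_iff.2 fun c hc => by rw [hu] at hc; simpa using hc
      intro y
      have := congrArg (fun f : S6 => f y) h2
      simpa [pow_succ] using this
    obtain ⟨a, ha⟩ : ∃ a, φ r6 a ≠ a := by
      by_contra h; push Not at h
      have : φ r6 = 1 := Equiv.ext h
      rw [this] at hcy; simp at hcy
    obtain ⟨a3, a2, hall⟩ := three_points hcy ha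
    set r := φ r6 with hr'
    have hcu : ∀ y, r (u y) = u (r y) := fun y => congrArg (fun f : S6 => f y) hc.eq
    rcases hall (u a) (fun e => ha (u.injective (by rw [← hcu, e]))) with e | e | e
    · exact hfix a e
    · have h' := hinv a
      rw [e, ← hcu, e] at h'
      exact a2 h'
    · have h' := hinv a
      rw [e, ← hcu, ← hcu, e] at h'
      exact ha (by
        have := a3
        rw [show r (r (r (r a))) = r a by rw [a3]] at h'
        exact h')
  refine ⟨φ, hsgn, fun z hz => ?_⟩
  have h3z : z ^ 3 = 1 := by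
    haveI : Fact (Nat.Prime 3) := ⟨Nat.prime_three⟩
    exact Perm.pow_prime_eq_one_iff.2 fun c hc => by rw [hz] at hc; simpa using hc
  have hz1 : z ≠ 1 := fun e => by rw [e] at hz; simp at hz
  refine (types_of_cube h6 (x := φ z) (by rw [← map_pow, h3z, map_one])
    fun e => hz1 (φ.injective (e.trans (map_one φ).symm))).resolve_right fun hφz => ?_
  have hr1 : r6 ≠ 1 := fun e => by rw [e] at hr; simp at hr
  have hφr : (φ r6).cycleType = {3, 3} :=
    (types_of_cube h6 (x := φ r6) (by rw [← map_pow, six_facts.1, map_one])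
      fun e => hr1 (φ.injective (e.trans (map_one φ).symm))).resolve_left hnr
  have := Cfsg.Agent.Perm.IndexSix.isSwap_map_iff φ.symm (hφr.trans hφz.symm)
  rw [φ.symm_apply_apply, φ.symm_apply_apply, hr, hz] at this
  exact absurd this (by decide)

/-- An isomorphism with the alternating group, adjusted on a Sylow normalizer. -/
theorem exists_adjusted {X : Type*} [Group X] (e0 : X ≃* alternatingGroup (Fin 6)) {x2 x3 y : X}
    (h3 : x2 ^ 3 = 1) (h1 : x2 ≠ 1) (hc : x2 * x3 = x3 * x2) (hy2 : y * x2 * y⁻¹ = x3)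
    (hy3 : y * x3 * y⁻¹ = x2⁻¹) (hn1 : x3 ≠ x2) (hn2 : x3 ≠ x2 * x2)
    (hC : ∀ g, g * x2 = x2 * g → g * x3 = x3 * g → ∃ a b : Fin 3, g = x2 ^ a.val * x3 ^ b.val) :
    ∃ e : X ≃* alternatingGroup (Fin 6), (e x2 : S6) = r6 ∧ (e x3 : S6) = s6 ∧ (e y : S6) = i6 := by
  have h6 : Fintype.card (Fin 6) = 6 := Fintype.card_fin 6
  -- a monomorphism into the symmetric group with even image
  obtain ⟨f, hf, hfA, hfx⟩ : ∃ f : X →* S6, Function.Injective f ∧
      (∀ g, g ∈ f.range ↔ Perm.sign g = 1) ∧ (f x2).cycleType = {3} := by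
    have hinj : Function.Injective ((alternatingGroup (Fin 6)).subtype.comp e0.toMonoidHom) :=
      Subtype.val_injective.comp e0.injective
    have hrange : ∀ g, g ∈ ((alternatingGroup (Fin 6)).subtype.comp e0.toMonoidHom).range ↔ Perm.sign g = 1 :=
      fun g => ⟨fun ⟨x, hx⟩ => hx ▸ (e0 x).2, fun h => ⟨e0.symm ⟨g, h⟩, by simp⟩⟩
    rcases types_of_cube h6 (x := ((alternatingGroup (Fin 6)).subtype.comp e0.toMonoidHom) x2)
      (by rw [← map_pow, h3, map_one]) (fun e => h1 (hinj (e.trans (map_one _).symm))) with h | h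
    · exact ⟨_, hinj, hrange, h⟩
    · obtain ⟨φ, hφs, hφ⟩ := exists_exotic
      refine ⟨φ.toMonoidHom.comp ((alternatingGroup (Fin 6)).subtype.comp e0.toMonoidHom),
        φ.injective.comp hinj, fun g => ?_, hφ _ h⟩
      constructor
      · rintro ⟨x, rfl⟩
        exact (hφs _).trans (e0 x).2
      · intro h'
        obtain ⟨x, hx⟩ := (hrange (φ.symm g)).2 (by rw [← hφs, φ.apply_symm_apply, h'])
        exact ⟨x, by rw [MonoidHom.comp_apply, hx]; exact φ.apply_symm_apply g⟩
  have hfx3 : (f x3).cycleType = {3} := by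
    rw [← hfx]
    exact (Perm.isConj_iff_cycleType_eq.1 (isConj_iff.2 ⟨f y, by rw [← map_inv, ← map_mul, ← map_mul, hy2]⟩)).symm
  obtain ⟨π, hπ2, hπ3⟩ := pair_conj hfx hfx3 ((show Commute x2 x3 from hc).map f) (fun e => hn1 (hf e))
    (fun e => hn2 (hf (by rw [e, map_mul])))
  set g : X →* S6 := (MulAut.conj π⁻¹).toMonoidHom.comp f with hg
  have hgv : ∀ x, g x = π⁻¹ * f x * π := fun x => by simp [hg]
  have hg2 : g x2 = r6 := by rw [hgv, ← hπ2]; group
  have hg3 : g x3 = s6 := by rw [hgv, ← hπ3]; group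
  have hgi : Function.Injective g := (MulAut.conj π⁻¹).injective.comp hf
  have hgA : ∀ p, p ∈ g.range ↔ Perm.sign p = 1 := by
    intro p
    constructor
    · rintro ⟨x, rfl⟩
      rw [hgv, map_mul, map_mul, map_inv, (hfA _).1 ⟨x, rfl⟩, mul_one, inv_mul_cancel]
    · intro hp
      obtain ⟨x, hx⟩ := (hfA (π * p * π⁻¹)).2 (by
        rw [map_mul, map_mul, map_inv, hp, mul_one, mul_inv_cancel])
      exact ⟨x, by rw [hgv, hx]; group⟩
  obtain ⟨-, -, -, i2, i3, sr, ss, si⟩ := six_facts
  obtain ⟨y0, hy0⟩ := (hgA i6).2 si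
  have hz : ∃ a b : Fin 3, y0⁻¹ * y = x2 ^ a.val * x3 ^ b.val := by
    have e2 : y0 * x2 * y0⁻¹ = x3 := hgi (by rw [map_mul, map_mul, map_inv, hy0, hg2, hg3, i2])
    have e3 : y0 * x3 * y0⁻¹ = x2⁻¹ := hgi (by rw [map_mul, map_mul, map_inv, map_inv, hy0, hg2, hg3, i3])
    refine hC _ (mul_inv_eq_iff_eq_mul.1 ?_) (mul_inv_eq_iff_eq_mul.1 ?_)
    · calc y0⁻¹ * y * x2 * (y0⁻¹ * y)⁻¹ = y0⁻¹ * (y * x2 * y⁻¹) * y0 := by group
        _ = x2 := by rw [hy2, ← e2]; group
    · calc y0⁻¹ * y * x3 * (y0⁻¹ * y)⁻¹ = y0⁻¹ * (y * x3 * y⁻¹) * y0 := by group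
        _ = x3 := by rw [hy3, ← e3]; group
  obtain ⟨a, b, hab⟩ := hz
  obtain ⟨c, d, hcd⟩ := six_shift a b
  set q := r6 ^ c.val * s6 ^ d.val with hq
  have hgy : g y = i6 * (r6 ^ a.val * s6 ^ b.val) := by
    rw [show y = y0 * (y0⁻¹ * y) by group, hab, map_mul, map_mul, map_pow, map_pow, hy0, hg2, hg3]
  have hqr : q * r6 * q⁻¹ = r6 := by
    have : Commute q r6 := ((Commute.refl r6).pow_left _).mul_left ((show Commute s6 r6 from six_facts.2.2.1.symm).pow_left _)
    rw [this.eq, mul_inv_cancel_right]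
  have hqs : q * s6 * q⁻¹ = s6 := by
    have : Commute q s6 := ((show Commute r6 s6 from six_facts.2.2.1).pow_left _).mul_left ((Commute.refl s6).pow_left _)
    rw [this.eq, mul_inv_cancel_right]
  set k : X →* S6 := (MulAut.conj q).toMonoidHom.comp g with hk
  have hkv : ∀ x, k x = q * g x * q⁻¹ := fun x => by simp [hk]
  have hkA : ∀ x, k x ∈ alternatingGroup (Fin 6) := fun x => Perm.mem_alternatingGroup.2 (by
    rw [hkv, map_mul, map_mul, map_inv, (hgA _).1 ⟨x, rfl⟩, mul_one, mul_inv_cancel])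
  refine ⟨MulEquiv.ofBijective (k.codRestrict (alternatingGroup (Fin 6)) hkA) ⟨fun u v huv =>
    hgi ((MulAut.conj q).injective (congrArg Subtype.val huv)), fun p => ?_⟩, ?_, ?_, ?_⟩
  · obtain ⟨x, hx⟩ := (hgA (q⁻¹ * (p : S6) * q)).2 (by
      rw [map_mul, map_mul, map_inv, show Perm.sign (p : S6) = 1 from p.2, mul_one, inv_mul_cancel])
    exact ⟨x, Subtype.ext (by show k x = p; rw [hkv, hx]; group)⟩
  · show k x2 = r6
    rw [hkv, hg2, hqr]
  · show k x3 = s6
    rw [hkv, hg3, hqs]
  · show k y = i6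
    rw [hkv, hgy, hcd]

/-- The last six of nine points. -/
def lastSix : Fin 6 ≃ {i : Fin 9 // 3 ≤ i.val} where
  toFun i := ⟨⟨i.val + 3, by omega⟩, by simp⟩
  invFun i := ⟨i.1.val - 3, by omega⟩
  left_inv i := by ext; simp
  right_inv i := by
    apply Subtype.ext; apply Fin.ext
    have := i.2
    simp only
    omega

/-- A permutation of the last six points. -/
def ext6 : S6 →* Perm (Fin 9) := Perm.extendDomainHom lastSix

theorem c1_move : (∀ i : Fin 9, c1 i ≠ i ↔ i.val < 3) ∧ ∀ (j : Fin 9) (i : Fin 9), i.val < 3 → j.val < 3 →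
    ∃ m : Fin 3, (c1 ^ m.val) 0 = j := by decide +kernel

theorem c1_sign : Perm.sign c1 = 1 := by simp [c1]

theorem ext6_fix (s : S6) {i : Fin 9} (hi : i.val < 3) : ext6 s i = i :=
  Perm.extendDomain_apply_not_subtype _ _ (by omega)

theorem c1_pow_fix : ∀ (m : Fin 3) (i : Fin 9), 3 ≤ i.val → (c1 ^ m.val) i = i := by decide +kernel

theorem block_span : ∀ i : Fin 9, i.val < 3 → ∃ m : Fin 3, (c1 ^ m.val) 0 = i := by decide +kernel

theorem c1_commute_ext (s : S6) : Commute c1 (ext6 s) := by
  refine Equiv.ext fun i => ?_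
  simp only [Perm.mul_apply]
  by_cases hi : i.val < 3
  · have hci : (c1 i).val < 3 := (c1_move.1 _).1 fun e => (c1_move.1 i).2 hi (c1.injective e)
    rw [ext6_fix s hi, ext6_fix s hci]
  · have hci : c1 i = i := by_contra fun e => hi ((c1_move.1 i).1 e)
    have hsi : ¬ (ext6 s i).val < 3 := fun h => hi (by
      have h2 := ext6_fix s h
      rw [(ext6 s).injective h2] at h
      exact h)
    rw [hci, by_contra fun e => hsi ((c1_move.1 (ext6 s i)).1 e)]

/-- The group of order three times the alternating group, in the centralizer. -/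
def epsFun (t : Multiplicative (ZMod 3) × alternatingGroup (Fin 6)) : Perm (Fin 9) :=
  c1 ^ (Multiplicative.toAdd t.1).val * ext6 (t.2 : S6)

theorem c1_pow_add : ∀ x y : ZMod 3, c1 ^ (x + y).val = c1 ^ x.val * c1 ^ y.val := by decide +kernel

theorem epsFun_mem (t : Multiplicative (ZMod 3) × alternatingGroup (Fin 6)) :
    epsFun t ∈ alternatingGroup (Fin 9) ⊓ Subgroup.centralizer ({c1} : Set (Perm (Fin 9))) := by
  refine ⟨Perm.mem_alternatingGroup.2 ?_, Subgroup.mem_centralizer_singleton_iff.2 ?_⟩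
  · rw [epsFun, map_mul, map_pow, c1_sign, one_pow, one_mul, ext6, Perm.extendDomainHom_apply,
      Perm.sign_extendDomain]
    exact t.2.2
  · exact (((Commute.refl c1).pow_left _).mul_left (c1_commute_ext _).symm).eq

/-- The map onto the centralizer. -/
def eps : Multiplicative (ZMod 3) × alternatingGroup (Fin 6) →* CM where
  toFun t := ⟨epsFun t, epsFun_mem t⟩
  map_one' := Subtype.ext (by simp [epsFun])
  map_mul' a b := Subtype.ext (by
    show c1 ^ (Multiplicative.toAdd a.1 + Multiplicative.toAdd b.1).val * ext6 ((a.2 : S6) * (b.2 : S6)) =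
      c1 ^ (Multiplicative.toAdd a.1).val * ext6 (a.2 : S6) * (c1 ^ (Multiplicative.toAdd b.1).val * ext6 (b.2 : S6))
    rw [c1_pow_add, map_mul]
    simp only [mul_assoc]
    congr 1
    rw [← mul_assoc (ext6 (a.2 : S6)), ← ((c1_commute_ext _).pow_left _).eq, mul_assoc])

theorem eps_bijective : Function.Bijective eps := by
  constructor
  · rw [injective_iff_map_eq_one]
    rintro ⟨t, s⟩ h
    have h' : c1 ^ (Multiplicative.toAdd t).val * ext6 (s : S6) = 1 := congrArg Subtype.val h
    have h0 := congrArg (fun f : Perm (Fin 9) => f 0) h'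
    simp only [Perm.mul_apply, ext6_fix _ (show (0 : Fin 9).val < 3 by decide), Perm.one_apply] at h0
    have ht : Multiplicative.toAdd t = 0 :=
      (by decide +kernel : ∀ x : ZMod 3, (c1 ^ x.val) 0 = 0 → x = 0) _ h0
    rw [ht] at h'
    simp only [ZMod.val_zero, pow_zero, one_mul] at h'
    refine Prod.ext ?_ (Subtype.ext ((injective_iff_map_eq_one ext6).1 (Perm.extendDomainHom_injective _) _ h'))
    exact Multiplicative.toAdd.injective ht
  · intro k
    have hk : Commute (k : Perm (Fin 9)) c1 := Subgroup.mem_centralizer_singleton_iff.1 k.2.2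
    have hkc : ∀ i, (k : Perm (Fin 9)) (c1 i) = c1 ((k : Perm (Fin 9)) i) :=
      fun i => congrArg (fun f : Perm (Fin 9) => f i) hk.eq
    have hiff : ∀ i : Fin 9, ((k : Perm (Fin 9)) i).val < 3 ↔ i.val < 3 := fun i => by
      rw [← c1_move.1, ← c1_move.1, ← hkc]
      exact not_congr (k : Perm (Fin 9)).injective.eq_iff
    obtain ⟨m, hm⟩ := block_span _ ((hiff 0).2 (by decide))
    set s : S6 := lastSix.symm.permCongr ((k : Perm (Fin 9)).subtypePerm fun i => by
      have := hiff i; omega) with hs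
    have heq : (k : Perm (Fin 9)) = c1 ^ m.val * ext6 s := by
      refine Equiv.ext fun i => ?_
      rw [Perm.mul_apply]
      by_cases hi : i.val < 3
      · rw [ext6_fix s hi]
        obtain ⟨n, rfl⟩ := block_span i hi
        have hn : (k : Perm (Fin 9)) ((c1 ^ n.val) 0) = (c1 ^ n.val) ((k : Perm (Fin 9)) 0) :=
          congrArg (fun f : Perm (Fin 9) => f 0) (hk.pow_right n.val).eq
        rw [hn, ← hm, ← Perm.mul_apply, ← Perm.mul_apply, ← pow_add, ← pow_add, add_comm]
      · have h3 : 3 ≤ i.val := by omega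
        have he : ext6 s i = (k : Perm (Fin 9)) i := by
          rw [ext6, Perm.extendDomainHom_apply, hs]
          exact (Perm.extendDomain_apply_subtype _ lastSix (b := i) h3).trans (by
            simp [Equiv.permCongr_apply, Perm.subtypePerm])
        rw [he, c1_pow_fix m _ (by have := hiff i; omega)]
    have hsign : Perm.sign s = 1 := by
      have h1 : Perm.sign (k : Perm (Fin 9)) = 1 := k.2.1
      rwa [heq, map_mul, map_pow, c1_sign, one_pow, one_mul, ext6, Perm.extendDomainHom_apply,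
        Perm.sign_extendDomain] at h1
    refine ⟨(Multiplicative.ofAdd (m.val : ZMod 3), ⟨s, hsign⟩), Subtype.ext ?_⟩
    show c1 ^ ((m.val : ZMod 3)).val * ext6 s = _
    rw [heq, ZMod.val_natCast, Nat.mod_eq_of_lt m.2]

/-- The centralizer of a three-cycle. -/
noncomputable def epsEquiv : Multiplicative (ZMod 3) × alternatingGroup (Fin 6) ≃* CM :=
  MulEquiv.ofBijective eps eps_bijective

/-- The element of order four of the model. -/
def i4 : Me := mE 0 2 5

theorem model_values : jP (1, 0, 0) = c1 ∧ jP (0, 1, 0) = ext6 r6 ∧ jP (0, 0, 1) = ext6 s6 ∧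
    elP i4.1 = ext6 i6 := by
  refine ⟨?_, ?_, ?_, ?_⟩ <;> decide +kernel

end Cfsg.Agent.A9Local
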