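import Cfsg.Agent.Lib.A9Local.LocalBase

/-!
# The centralizer of the element permuting the three cycles
-/

set_option autoImplicit false
set_option linter.style.haveILetI false
set_option maxRecDepth 100000
set_option synthInstance.maxSize 10000

namespace Cfsg.Agent.A9Local

open Subgroup Cfsg.Agent.NineSym

universe u

variable {G : Type u} [Group G]

/-- A subgroup of a group of prime power order containing its normalizer is everything. -/
theorem eq_of_selfNormalizing {H : Type*} [Group H] [Finite H] {p : ℕ} [Fact p.Prime] {P E : Subgroup H}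
    (hP : IsPGroup p P) (hE : E ≤ P) (h : ∀ x ∈ P, x ∈ normalizer (E : Set H) → x ∈ E) : P = E := by
  by_contra hne
  haveI := hP.isNilpotent
  have hlt : (E.subgroupOf P) < ⊤ := lt_top_iff_ne_top.2 fun h' =>
    hne (le_antisymm (subgroupOf_eq_top.1 h') hE)
  obtain ⟨⟨x, hxP⟩, hxn, hxS⟩ := SetLike.exists_of_lt (Group.normalizerCondition_of_isNilpotent _ hlt)
  refine hxS (h x hxP (mem_normalizer_iff.2 fun y => ⟨fun hy => (mem_normalizer_iff.1 hxn ⟨y, hE hy⟩).1 hy,
    fun hy => ?_⟩))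
  have hyP : y ∈ P := by
    have := P.mul_mem (P.mul_mem (P.inv_mem hxP) (hE hy)) hxP
    rwa [show x⁻¹ * (x * y * x⁻¹) * x = y by group] at this
  exact (mem_normalizer_iff.1 hxn ⟨y, hyP⟩).2 hy

/-- An abelian subgroup of exponent three equal to its normalizer is everything, if the core is trivial. -/
theorem eq_of_abelian_selfNormalizing [Finite G] {Y E : Subgroup G} (hcore : Cfsg.pPrimeCore 3 Y = ⊥)
    (hEY : E ≤ Y) (hexp : ∀ a ∈ E, a ^ 3 = 1) (hab : ∀ a ∈ E, ∀ b ∈ E, a * b = b * a)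
    (hN : ∀ x ∈ Y, x ∈ normalizer (E : Set G) → x ∈ E) : Y = E := by
  haveI : Fact (Nat.Prime 3) := ⟨by norm_num⟩
  refine eq_of_complement hcore ?_ hEY fun Q hQ hle hQY =>
    eq_of_selfNormalizing hQ hle fun x hx hxn => hN x (hQY hx) hxn
  have hp : IsPGroup 3 (E.subgroupOf Y) := fun a => ⟨1, by
    refine Subtype.ext (Subtype.ext ?_)
    rw [pow_one, SubmonoidClass.coe_pow, SubmonoidClass.coe_pow]
    exact hexp _ (mem_subgroupOf.1 a.2)⟩
  obtain ⟨P, hP⟩ := hp.exists_le_sylow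
  have hnorm : ∀ x : Y, x ∈ normalizer ((E.subgroupOf Y : Subgroup Y) : Set Y) → x ∈ E.subgroupOf Y := by
    intro x hx
    refine mem_subgroupOf.2 (hN x x.2 (mem_normalizer_iff.2 fun y => ⟨fun hy =>
      mem_subgroupOf.1 ((mem_normalizer_iff.1 hx ⟨y, hEY hy⟩).1 hy), fun hy => ?_⟩))
    have hyY : y ∈ Y := by
      have := Y.mul_mem (Y.mul_mem (Y.inv_mem x.2) (hEY hy)) x.2
      rwa [show (x : G)⁻¹ * ((x : G) * y * (x : G)⁻¹) * x = y by group] at this
    exact mem_subgroupOf.1 ((mem_normalizer_iff.1 hx ⟨y, hyY⟩).2 (mem_subgroupOf.2 hy))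
  have hPE : (P : Subgroup Y) = E.subgroupOf Y := eq_of_selfNormalizing P.2 hP fun x _ hx => hnorm x hx
  have hle : normalizer ((P : Subgroup Y) : Set Y) ≤ centralizer ((P : Subgroup Y) : Set Y) := by
    intro x hx y hy
    rw [hPE] at hx hy
    exact Subtype.ext (hab _ (mem_subgroupOf.1 hy) _ (mem_subgroupOf.1 (hnorm x hx)))
  exact ⟨P, _, inferInstance, MonoidHom.ker_transferSylow_isComplement' P hle⟩

theorem sig_group : ∀ (a b : ZMod 3) (i j : Fin 3), sE (a, a, a) i * sE (b, b, b) j = sE (b, b, b) j * sE (a, a, a) i ∧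
    sE (a, a, a) i ^ 3 = 1 := by decide +kernel

theorem diag_cases : ∀ a : ZMod 3, a = 0 ∨ ((a, a, a) : V3) = (1, 1, 1) ∨ ((a, a, a) : V3) = -(1, 1, 1) := by
  decide

theorem sig_ne : sE 0 1 ≠ 1 ∧ sE 0 1 ^ 3 = 1 := by decide +kernel

variable (B : Base G)

theorem cent_t [Finite G] {h h' : HM} (hh : (h : Equiv.Perm (Fin 9)) = tp)
    (hh' : (h' : Equiv.Perm (Fin 9)) = c1 * c2 * c3) (hne : ¬ IsConj (B.ι h) (B.ι h')) :
    centralizer ({B.ι h} : Set G) ≤ B.ι.range := by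
  have hC := cent_c B hh'
  rw [B.iota_jE (hh'.trans c123_eq)] at hne hC
  rw [B.emb_iota (q := sE 0 1) (hh.trans toHM_sig.symm)] at hne ⊢
  set c := B.emb (jE (1, 1, 1)) with hc
  set t := B.emb (sE 0 1) with ht
  set Y := centralizer ({t} : Set G) with hY
  have hE : ∀ g, g ∈ Y ⊓ B.ι.range ↔ ∃ a i, B.emb (sE (a, a, a) i) = g := by
    intro g
    constructor
    · rintro ⟨hg1, hg2⟩
      obtain ⟨p, rfl, hp⟩ := range_comm B hg2 (mem_centralizer_singleton_iff.1 hg1)
      obtain ⟨v, k, i, rfl⟩ := mE_surj p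
      obtain ⟨a, j, hj⟩ := cent_sig_model v k i hp
      exact ⟨a, j, by rw [hj]⟩
    · rintro ⟨a, i, rfl⟩
      exact ⟨mem_centralizer_singleton_iff.2 (by rw [← map_mul, ← map_mul, sig_comm_model]), B.emb_mem _⟩
  suffices hYE : Y = Y ⊓ B.ι.range from hYE.le.trans inf_le_right
  refine eq_of_abelian_selfNormalizing (B.cores_emb sig_ne.1 sig_ne.2) inf_le_left ?_ ?_ ?_
  · intro a ha
    obtain ⟨x, i, rfl⟩ := (hE a).1 ha
    rw [← map_pow, (sig_group x 0 i i).2, map_one]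
  · intro a ha b hb
    obtain ⟨x, i, rfl⟩ := (hE a).1 ha
    obtain ⟨y, j, rfl⟩ := (hE b).1 hb
    rw [← map_mul, ← map_mul, (sig_group x y i j).1]
  intro x hxY hxN
  refine ⟨hxY, normalizer_SG_le B ?_⟩
  have hcE : c ∈ Y ⊓ B.ι.range := (hE c).2 ⟨1, 0, by rw [sE_fix]⟩
  obtain ⟨a, i, hai⟩ := (hE _).1 ((mem_normalizer_iff.1 hxN c).1 hcE)
  have hi : i = 0 := by
    by_contra hi
    obtain ⟨v, p, hq⟩ := sig_fuse_model a i hi
    have h1 : IsConj t (x * c * x⁻¹) := isConj_iff.2 ⟨B.emb (mE v 0 p), by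
      rw [mul_inv_eq_iff_eq_mul, ← map_mul, hq, map_mul, hai]⟩
    exact hne (h1.trans (isConj_iff.2 ⟨x⁻¹, by group⟩))
  rw [hi, sE_fix] at hai
  have hfix : ∀ y, y * (x * c * x⁻¹) = (x * c * x⁻¹) * y → y * c = c * y := by
    intro y hy
    rw [← hai] at hy
    rcases diag_cases a with e | e | e
    · exfalso
      rw [e, show ((0 : ZMod 3), (0 : ZMod 3), (0 : ZMod 3)) = (0 : V3) from rfl, jE_zero, map_one] at hai
      have : c = 1 := by
        rw [show c = x⁻¹ * (x * c * x⁻¹) * x by group, ← hai]; group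
      exact jE_ne _ c_ne (B.emb_inj (this.trans (map_one _).symm))
    · rwa [e] at hy
    · rw [e] at hy
      have hinv : B.emb (jE (-(1, 1, 1))) = c⁻¹ :=
        eq_inv_of_mul_eq_one_left (by rw [hc, ← map_mul, ← jE_add, neg_add_cancel, jE_zero, map_one])
      rw [hinv] at hy
      exact (Commute.inv_right_iff.1 hy)
  have hS : ∀ g, g ∈ B.SG ↔ g * c = c * g := fun g =>
    ⟨fun hg => mem_centralizer_singleton_iff.1 (SG_le_cent B hg),
      fun hg => mem_SG_of_cent B (hC (mem_centralizer_singleton_iff.2 hg)) hg⟩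
  have hfw : ∀ y, y ∈ B.SG → x * y * x⁻¹ ∈ B.SG := fun y hy => (hS _).2 (hfix _ (by
    have := (hS y).1 hy
    calc x * y * x⁻¹ * (x * c * x⁻¹) = x * (y * c) * x⁻¹ := by group
      _ = x * (c * y) * x⁻¹ := by rw [this]
      _ = x * c * x⁻¹ * (x * y * x⁻¹) := by group))
  exact mem_normalizer_iff.2 fun y => ⟨hfw y, fun hy => by
    let f : B.SG → B.SG := fun z => ⟨x * z * x⁻¹, hfw z z.2⟩
    obtain ⟨z, hz⟩ := Finite.surjective_of_injective (f := f) (fun z w h => Subtype.ext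
      (mul_left_cancel (mul_right_cancel (congrArg Subtype.val h)))) ⟨_, hy⟩
    have : (z : G) = y := mul_left_cancel (mul_right_cancel (congrArg Subtype.val hz))
    exact this ▸ z.2⟩

end Cfsg.Agent.A9Local
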