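import Cfsg.Agent.Lib.SelfNine.Triangle

/-!
# Triangles of elements of order three

If the Sylow `3`-subgroup is elementary abelian and is the centralizer of `x`, two elements `y`, `z` of
order three with `x y z = 1` are conjugates of `t x`, `t⁻¹ x` for some `t` centralizing `x`.
-/

set_option autoImplicit false
set_option linter.style.haveILetI false

namespace Cfsg.Agent.A9Local

open Subgroup

variable {X : Type*} [Group X] [Finite X]

theorem isPGroup_exp (P : Sylow 3 X) (hexp : ∀ a ∈ (P : Subgroup X), a ^ 3 = 1)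
    (hcomm : ∀ a ∈ (P : Subgroup X), ∀ b ∈ (P : Subgroup X), a * b = b * a)
    {Q : Subgroup X} (hQ : IsPGroup 3 Q) {a b : X} (ha : a ∈ Q) (hb : b ∈ Q) : a ^ 3 = 1 ∧ a * b = b * a := by
  haveI : Fact (Nat.Prime 3) := ⟨Nat.prime_three⟩
  obtain ⟨R, hR⟩ := hQ.exists_le_sylow
  obtain ⟨c, hc⟩ := MulAction.exists_smul_eq X R P
  have hm : ∀ g : X, g ∈ Q → c * g * c⁻¹ ∈ (P : Subgroup X) := fun g hg => by
    rw [← hc, Sylow.coe_subgroup_smul]
    exact smul_mem_pointwise_smul g (MulAut.conj c) _ (hR hg)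
  refine ⟨?_, ?_⟩
  · have := hexp _ (hm a ha)
    rw [conj_pow] at this
    exact conj_eq_one_iff.1 this
  · have := hcomm _ (hm a ha) _ (hm b hb)
    rw [show c * a * c⁻¹ * (c * b * c⁻¹) = c * (a * b) * c⁻¹ by group,
      show c * b * c⁻¹ * (c * a * c⁻¹) = c * (b * a) * c⁻¹ by group] at this
    exact mul_left_cancel (mul_right_cancel this)

theorem conj_of_triangle (P : Sylow 3 X) (hexp : ∀ a ∈ (P : Subgroup X), a ^ 3 = 1)
    (hcomm : ∀ a ∈ (P : Subgroup X), ∀ b ∈ (P : Subgroup X), a * b = b * a) {x y : X}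
    (hx : x ^ 3 = 1) (hy : y ^ 3 = 1) (hxy : (x * y) ^ 3 = 1) :
    ∃ t : X, t ^ 3 = 1 ∧ Commute t x ∧ IsConj (t * x) y ∧ IsConj (t⁻¹ * x) (x * y)⁻¹ := by
  classical
  haveI : Fact (Nat.Prime 3) := ⟨Nat.prime_three⟩
  have hx' : x * x * x = 1 := by rw [← pow_two, ← pow_succ]; exact hx
  have hy' : y * y * y = 1 := by rw [← hy, pow_succ, pow_two]
  have hxy' : x * y * (x * y) * (x * y) = 1 := by rw [← hxy, pow_succ, pow_two]
  set u := x * y⁻¹ with hu
  set v := y⁻¹ * x with hv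
  have hinvx : x⁻¹ = x * x := inv_eq_of_mul_eq_one_right (by rw [← mul_assoc]; exact hx')
  have hinvy : y⁻¹ = y * y := inv_eq_of_mul_eq_one_right (by rw [← mul_assoc]; exact hy')
  have huv : u * v = x * y * x := by
    calc u * v = x * (y⁻¹ * y⁻¹) * x := by simp only [hu, hv]; group
      _ = x * (y * y * (y * y)) * x := by rw [hinvy]
      _ = x * (y * y * y) * y * x := by group
      _ = x * y * x := by rw [hy', mul_one]
  have hvu : v * u = x * y * x := by
    calc v * u = y⁻¹ * (x * x) * y⁻¹ := by simp only [hu, hv]; group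
      _ = y⁻¹ * x⁻¹ * y⁻¹ := by rw [hinvx]
      _ = (x * y * (x * y) * (x * y)) * (y⁻¹ * x⁻¹ * y⁻¹) := by rw [hxy', one_mul]
      _ = x * y * x := by group
  have hcuv : u * v = v * u := huv.trans hvu.symm
  set M := Subgroup.closure ({u, v} : Set X) with hM
  have huM : u ∈ M := Subgroup.subset_closure (Set.mem_insert _ _)
  have hvM : v ∈ M := Subgroup.subset_closure (Set.mem_insert_of_mem _ rfl)
  have hMcomm : ∀ g ∈ M, ∀ k ∈ M, g * k = k * g := by
    have hle : M ≤ Subgroup.centralizer (M : Set X) := by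
      rw [hM, Subgroup.centralizer_closure, Subgroup.closure_le]
      rintro g (rfl | rfl) k (rfl | rfl)
      · rfl
      · exact hcuv.symm
      · exact hcuv
      · rfl
    intro g hg k hk
    exact (hle hg k hk).symm
  have hxu : x * u * x⁻¹ = (u * v)⁻¹ := by
    rw [huv]
    calc x * u * x⁻¹ = (x * x) * y⁻¹ * x⁻¹ := by simp only [hu]; group
      _ = (x * y * x)⁻¹ := by rw [← hinvx]; group
  have hxv : x * v * x⁻¹ = u := by simp only [hu, hv]; group
  have hxM : ∀ m ∈ M, x * m * x⁻¹ ∈ M := by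
    intro m hm
    rw [hM] at hm
    induction hm using Subgroup.closure_induction with
    | mem g hg =>
      rcases hg with rfl | rfl
      · rw [hxu]; exact M.inv_mem (M.mul_mem huM hvM)
      · rw [hxv]; exact huM
    | one => simp
    | mul g k _ _ hg hk => rw [show x * (g * k) * x⁻¹ = (x * g * x⁻¹) * (x * k * x⁻¹) by group]; exact M.mul_mem hg hk
    | inv g _ hg => rw [show x * g⁻¹ * x⁻¹ = (x * g * x⁻¹)⁻¹ by group]; exact M.inv_mem hg
  -- the elements of order dividing three and the cubes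
  let N : Subgroup X :=
    { carrier := {g | ∃ m ∈ M, m ^ 3 = g}
      one_mem' := ⟨1, M.one_mem, one_pow 3⟩
      mul_mem' := by
        rintro _ _ ⟨a, ha, rfl⟩ ⟨b, hb, rfl⟩
        exact ⟨a * b, M.mul_mem ha hb, Commute.mul_pow (hMcomm a ha b hb) 3⟩
      inv_mem' := by
        rintro _ ⟨a, ha, rfl⟩
        exact ⟨a⁻¹, M.inv_mem ha, inv_pow a 3⟩ }
  have hNM : N ≤ M := by
    rintro _ ⟨a, ha, rfl⟩
    exact M.pow_mem ha 3
  have hN3 : ∀ m ∈ N, m ^ 3 = 1 → m = 1 := by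
    rintro _ ⟨a, -, rfl⟩ h
    have hz : IsPGroup 3 (zpowers a) := by
      obtain ⟨k, -, hk⟩ := (Nat.dvd_prime_pow Nat.prime_three).1
        (orderOf_dvd_of_pow_eq_one (show a ^ 3 ^ 2 = 1 by rw [show 3 ^ 2 = 3 * 3 from rfl, pow_mul, h]))
      exact IsPGroup.of_card (n := k) (by rw [Nat.card_zpowers, hk])
    exact (isPGroup_exp P hexp hcomm hz (mem_zpowers a) (mem_zpowers a)).1
  have hsplit : ∀ m ∈ M, ∃ t n, t ∈ M ∧ t ^ 3 = 1 ∧ n ∈ N ∧ m = n * t := by
    intro m hm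
    let f : N → N := fun n => ⟨(n : X) ^ 3, N.pow_mem n.2 3⟩
    have hf : Function.Injective f := fun a b h => by
      have h' : (a : X) ^ 3 = (b : X) ^ 3 := congrArg Subtype.val h
      refine Subtype.ext (inv_mul_eq_one.1 (hN3 _ (N.mul_mem (N.inv_mem a.2) b.2) ?_))
      rw [Commute.mul_pow (hMcomm _ (hNM (N.inv_mem a.2)) _ (hNM b.2)), inv_pow, h', inv_mul_cancel]
    obtain ⟨⟨n, hn⟩, hn'⟩ := Finite.surjective_of_injective hf ⟨m ^ 3, m, hm, rfl⟩
    refine ⟨n⁻¹ * m, n, M.mul_mem (M.inv_mem (hNM hn)) hm, ?_, hn, by group⟩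
    rw [Commute.mul_pow (hMcomm _ (M.inv_mem (hNM hn)) _ hm), inv_pow,
      show n ^ 3 = m ^ 3 from congrArg Subtype.val hn', inv_mul_cancel]
  have hcx : ∀ t ∈ M, t ^ 3 = 1 → Commute t x := by
    intro t ht ht3
    let T : Subgroup X :=
      { carrier := {g | g ∈ M ∧ g ^ 3 = 1}
        one_mem' := ⟨M.one_mem, one_pow 3⟩
        mul_mem' := fun {a b} ha hb => ⟨M.mul_mem ha.1 hb.1, by
          rw [Commute.mul_pow (hMcomm a ha.1 b hb.1), ha.2, hb.2, one_mul]⟩
        inv_mem' := fun {a} ha => ⟨M.inv_mem ha.1, by rw [inv_pow, ha.2, inv_one]⟩ }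
    have hT : IsPGroup 3 T := fun g => ⟨1, Subtype.ext (by rw [pow_one]; exact g.2.2)⟩
    have hzN : Subgroup.zpowers x ≤ Subgroup.normalizer (T : Set X) := by
      rw [Subgroup.zpowers_le, Subgroup.mem_normalizer_iff]
      have hxT : ∀ g ∈ T, x * g * x⁻¹ ∈ T := fun g hg =>
        ⟨hxM g hg.1, by rw [conj_pow, hg.2, mul_one, mul_inv_cancel]⟩
      intro g
      refine ⟨hxT g, fun hg => ?_⟩
      have h2 := hxT _ (hxT _ hg)
      have he : x * (x * (x * g * x⁻¹) * x⁻¹) * x⁻¹ = g := by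
        calc x * (x * (x * g * x⁻¹) * x⁻¹) * x⁻¹ = (x * x * x) * g * (x * x * x)⁻¹ := by group
          _ = g := by rw [hx']; group
      rwa [he] at h2
    have hzp : IsPGroup 3 (Subgroup.zpowers x) := by
      obtain ⟨k, -, hk⟩ := (Nat.dvd_prime_pow Nat.prime_three).1
        (orderOf_dvd_of_pow_eq_one (show x ^ 3 ^ 1 = 1 by rw [pow_one, hx]))
      exact IsPGroup.of_card (n := k) (by rw [Nat.card_zpowers, hk])
    exact (isPGroup_exp P hexp hcomm (hT.to_sup_of_normal_left' hzp hzN)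
      (Subgroup.mem_sup_left (show t ∈ T from ⟨ht, ht3⟩)) (Subgroup.mem_sup_right (mem_zpowers x))).2
  have hxN : ∀ m ∈ N, x * m * x⁻¹ ∈ N := by
    rintro _ ⟨a, ha, rfl⟩
    exact ⟨x * a * x⁻¹, hxM a ha, by rw [conj_pow]⟩
  have key : ∀ m ∈ M, (m * x) ^ 3 = 1 → ∀ t n, t ∈ M → t ^ 3 = 1 → n ∈ N → m = n * t →
      IsConj (t * x) (m * x) := by
    intro m _ hmx t n ht ht3 hn e
    have htx : (t * x) * (t * x) * (t * x) = 1 := by
      rw [← pow_two, ← pow_succ, (hcx t ht ht3).mul_pow, ht3, hx, one_mul]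
    have hM3 : ∀ g ∈ N, (t * x) * g * (t * x)⁻¹ ∈ N := fun g hg => by
      have h1 := hxN g hg
      rwa [show (t * x) * g * (t * x)⁻¹ = t * (x * g * x⁻¹) * t⁻¹ by group,
        hMcomm t ht _ (hNM h1), mul_inv_cancel_right]
    have := SelfNine.isConj_coset (fun a ha b hb => hMcomm a (hNM ha) b (hNM hb)) hN3 htx hM3 hn (by
      rw [show n * (t * x) = m * x by rw [e, mul_assoc], ← pow_two, ← pow_succ]; exact hmx)
    rwa [show n * (t * x) = m * x by rw [e, mul_assoc]] at this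
  obtain ⟨t, n, ht, ht3, hn, e⟩ := hsplit _ (M.inv_mem huM)
  have hu2 : x * (x * u * x⁻¹) * x⁻¹ ∈ M := hxM _ (hxM _ huM)
  obtain ⟨t', n', ht', ht3', hn', e'⟩ := hsplit _ hu2
  have hye : u⁻¹ * x = y := by simp only [hu]; group
  have hze : x * (x * u * x⁻¹) * x⁻¹ * x = (x * y)⁻¹ := by
    calc x * (x * u * x⁻¹) * x⁻¹ * x = x * x * u * x⁻¹ := by group
      _ = x⁻¹ * u * x⁻¹ := by rw [← hinvx]
      _ = y⁻¹ * x⁻¹ := by simp only [hu]; group
      _ = (x * y)⁻¹ := (mul_inv_rev x y).symm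
  have h1 := key _ (M.inv_mem huM) (by rw [hye, hy]) t n ht ht3 hn e
  have h2 := key _ hu2 (by rw [hze, inv_pow, hxy, inv_one]) t' n' ht' ht3' hn' e'
  rw [hye] at h1
  rw [hze] at h2
  have htt : t * t' = 1 := by
    have hkey : (x * y) * (x * y)⁻¹ = 1 := mul_inv_cancel _
    rw [show (x * y)⁻¹ = n' * t' * x from hze.symm.trans (by rw [e']),
      show y = n * t * x from hye.symm.trans (by rw [e])] at hkey
    have h3 : (x * n * x⁻¹) * (x * (x * n' * x⁻¹) * x⁻¹) * (t * t') = 1 := by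
      have ct : x * t * x⁻¹ = t := by rw [← (hcx t ht ht3).eq, mul_inv_cancel_right]
      have ct2 : x * (x * t' * x⁻¹) * x⁻¹ = t' := by
        rw [← (hcx t' ht' ht3').eq, mul_inv_cancel_right, ← (hcx t' ht' ht3').eq, mul_inv_cancel_right]
      calc (x * n * x⁻¹) * (x * (x * n' * x⁻¹) * x⁻¹) * (t * t')
          = (x * n * x⁻¹) * ((x * (x * n' * x⁻¹) * x⁻¹) * t) * t' := by group
        _ = (x * n * x⁻¹) * (t * (x * (x * n' * x⁻¹) * x⁻¹)) * t' := by
            rw [hMcomm t ht _ (hNM (hxN _ (hxN _ hn')))]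
        _ = (x * n * x⁻¹) * (x * t * x⁻¹) * (x * (x * n' * x⁻¹) * x⁻¹) * (x * (x * t' * x⁻¹) * x⁻¹) := by
            rw [ct, ct2]; group
        _ = x * (n * t * x) * (n' * t' * x) * (x * x * x)⁻¹ := by group
        _ = 1 := by rw [hx', hkey]; group
    refine hN3 _ ?_ (by rw [Commute.mul_pow (hMcomm t ht t' ht'), ht3, ht3', one_mul])
    rw [eq_inv_of_mul_eq_one_right h3]
    exact N.inv_mem (N.mul_mem (hxN n hn) (hxN _ (hxN _ hn')))
  rw [← inv_eq_of_mul_eq_one_right htt] at h2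
  exact ⟨t, ht3, hcx t ht ht3, h1, h2⟩

end Cfsg.Agent.A9Local
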