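import Cfsg.Agent.Lib.A9Local.LineChar
import Cfsg.Agent.Lib.A9Local.LocalT
import Cfsg.Agent.Lib.A9Local.LocalTri
import Cfsg.Agent.Lib.PLocal.Cores

/-!
# The centralizer of the product of two of the three cycles

Modulo that product the centralizer has a Sylow subgroup of order nine with three lines of
self-centralizing real pairwise non-conjugate elements and an empty triangle; this gives a linear
character, and a normal complement forces the centralizer into the normalizer of the group of order 27.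
-/

set_option autoImplicit false
set_option linter.style.haveILetI false
set_option maxRecDepth 100000
set_option synthInstance.maxSize 10000

namespace Cfsg.Agent.A9Local

open Subgroup Cfsg.Agent.NineSym

universe u

variable {G : Type u} [Group G]

/-- The fixed vector. -/
def bV : V3 := (1, 1, 0)

/-- The multiples of the fixed vector. -/
def diagV (a : ZMod 3) : V3 := (a, a, 0)

/-- The signed permutation of an even element. -/
def evW (k : Fin 4) (p : Fin 6) : Wt := ⟨decide (3 ≤ p.val), k, p⟩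

theorem mE_w (v : V3) (k : Fin 4) (p : Fin 6) : (mE v k p).1.w = evW k p := rfl

theorem full_conj : ∀ v : V3, v.1 ≠ 0 → v.2.1 ≠ 0 → v.2.2 ≠ 0 →
    ∃ k p, wact (evW k p) (1, 1, 1) = v ∨ wact (evW k p) (1, 1, 1) = -v := by decide +kernel

theorem shift_full : ∀ v : V3, v.2.2 ≠ 0 →
    ∃ a : ZMod 3, (v + diagV a).1 ≠ 0 ∧ (v + diagV a).2.1 ≠ 0 ∧ (v + diagV a).2.2 ≠ 0 := by decide +kernel

theorem fixB_trivial : ∀ (k : Fin 4) (p : Fin 6) (v : V3) (a : ZMod 3), wact (evW k p) bV = bV → v.2.2 ≠ 0 →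
    wact (evW k p) v = v + diagV a → k = 0 ∧ p = 0 := by decide +kernel

theorem fixB_two : ∀ (k : Fin 4) (p : Fin 6), wact (evW k p) bV = bV →
    ∀ (k' : Fin 4) (p' : Fin 6), wact (evW k' p') bV = bV → ¬ (k = 0 ∧ p = 0) → ¬ (k' = 0 ∧ p' = 0) →
      k = k' ∧ p = p' := by decide +kernel

theorem fixB_sq : ∀ (k : Fin 4) (p : Fin 6), wact (evW k p) bV = bV → evW k p * evW k p = 1 := by decide +kernel

theorem fixB_inverts : ∃ (k : Fin 4) (p : Fin 6), wact (evW k p) bV = bV ∧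
    ∀ i : Fin 3, ∃ a, wact (evW k p) ((i.val : ZMod 3), 0, 1) = -((i.val : ZMod 3), 0, 1) + diagV a := by
  decide +kernel

theorem fixB_lines : ∀ (i j : Fin 3) (k : Fin 4) (p : Fin 6) (a : ZMod 3), wact (evW k p) bV = bV →
    wact (evW k p) ((i.val : ZMod 3), 0, 1) = ((j.val : ZMod 3), 0, 1) + diagV a → i = j := by decide +kernel

/-- `x` and `y` are fused by the stabilizer modulo the fixed vector. -/
def fusedB (x y : V3) : Prop :=
  ∃ (k : Fin 4) (p : Fin 6) (a : ZMod 3), wact (evW k p) bV = bV ∧ wact (evW k p) x = y + diagV a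

instance : DecidableRel fusedB := fun x y => by unfold fusedB; infer_instance

theorem fixB_triangle : ∀ v : V3, fusedB (0, 0, 1) (v + (0, 0, 1)) → ¬ fusedB (1, 0, 1) (-v + (0, 0, 1)) := by
  decide +kernel

theorem diag_split : ∀ v : V3, ∃ (i j a : ZMod 3), v = (i, 0, j) + diagV a := by decide +kernel

theorem diag_inj : ∀ (i j i' j' a : ZMod 3), ((i, 0, j) : V3) = (i', 0, j') + diagV a → i = i' ∧ j = j' := by
  decide +kernel

theorem line_ne : ∀ (i : Fin 3) (a : ZMod 3), (((i.val : ZMod 3), 0, 1) : V3) ≠ diagV a := by decide +kernel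

theorem bV_fix : ∀ a : ZMod 3, diagV a = 0 ∨ diagV a = bV ∨ diagV a = bV + bV := by decide +kernel

theorem bV_ne : bV ≠ 0 := by decide

theorem bV_eq : c1 * c2 = jP bV := by decide +kernel

theorem diagV_add : ∀ a b : ZMod 3, diagV (a + b) = diagV a + diagV b := fun a b => by simp [diagV]

theorem diagV_zero : diagV 0 = 0 := rfl

theorem diagV_neg : ∀ a : ZMod 3, diagV (-a) = -diagV a := fun a => by simp [diagV]

theorem jE_neg (v : V3) : jE (-v) = (jE v)⁻¹ :=
  eq_inv_of_mul_eq_one_left (by rw [← jE_add, neg_add_cancel, jE_zero])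

variable (B : Base G)

theorem cent_full [Finite G] {v : V3} (h1 : v.1 ≠ 0) (h2 : v.2.1 ≠ 0) (h3 : v.2.2 ≠ 0) {g : G}
    (hg : g * B.emb (jE v) = B.emb (jE v) * g) : g ∈ B.ι.range := by
  obtain ⟨k, p, hw⟩ := full_conj v h1 h2 h3
  have hgc : Commute g (B.emb (jE (wact (evW k p) (1, 1, 1)))) := by
    rcases hw with hw | hw
    · rw [hw]; exact hg
    · rw [hw, jE_neg, map_inv]; exact (show Commute g _ from hg).inv_right
  set q := mE 0 k p with hq
  have hc : B.emb (jE (wact (evW k p) (1, 1, 1))) = B.emb q * B.emb (jE (1, 1, 1)) * (B.emb q)⁻¹ := by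
    rw [eq_mul_inv_iff_mul_eq, ← map_mul, ← map_mul, conj_jE]
    rfl
  rw [hc] at hgc
  have h : (B.emb q)⁻¹ * g * B.emb q ∈ B.ι.range :=
    cent_c B (h := toHM (jE (1, 1, 1))) ((toHM_jE _).trans c123_eq.symm) (mem_centralizer_singleton_iff.2 (by
      show (B.emb q)⁻¹ * g * B.emb q * B.emb (jE (1, 1, 1)) = B.emb (jE (1, 1, 1)) * ((B.emb q)⁻¹ * g * B.emb q)
      calc (B.emb q)⁻¹ * g * B.emb q * B.emb (jE (1, 1, 1))
          = (B.emb q)⁻¹ * (g * (B.emb q * B.emb (jE (1, 1, 1)) * (B.emb q)⁻¹)) * B.emb q := by group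
        _ = (B.emb q)⁻¹ * ((B.emb q * B.emb (jE (1, 1, 1)) * (B.emb q)⁻¹) * g) * B.emb q := by rw [hgc.eq]
        _ = _ := by group))
  have := mul_mem (mul_mem (B.emb_mem q) h) (inv_mem (B.emb_mem q))
  rwa [show B.emb q * ((B.emb q)⁻¹ * g * B.emb q) * (B.emb q)⁻¹ = g by group] at this

/-- Elements of the centralizer given by even elements. -/
theorem range_fixB {g : G} (hg : g ∈ B.ι.range) (hb : g * B.emb (jE bV) = B.emb (jE bV) * g) :
    ∃ v k p, B.emb (mE v k p) = g ∧ wact (evW k p) bV = bV := by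
  obtain ⟨q, rfl, hq⟩ := range_comm B hg hb
  obtain ⟨v, k, p, rfl⟩ := mE_surj q
  rw [conj_jE] at hq
  exact ⟨v, k, p, rfl, jE_inj (mul_right_cancel hq)⟩

theorem conj_emb (v u : V3) (k : Fin 4) (p : Fin 6) :
    B.emb (mE v k p) * B.emb (jE u) * (B.emb (mE v k p))⁻¹ = B.emb (jE (wact (evW k p) u)) := by
  rw [mul_inv_eq_iff_eq_mul, ← map_mul, ← map_mul, conj_jE]
  rfl

/-- An element of the centralizer mapping a vector off the plane into the group of order 27. -/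
theorem range_of_map [Finite G] {g : G} (hb : g * B.emb (jE bV) = B.emb (jE bV) * g) {u u' : V3}
    (hu' : u'.2.2 ≠ 0) (hg : g * B.emb (jE u) * g⁻¹ = B.emb (jE u')) :
    g ∈ B.ι.range := by
  refine B.mem_range_iff.2 fun x => ?_
  set h := g * B.emb (jE x) * g⁻¹ with hh
  have hcb : Commute h (B.emb (jE bV)) := by
    have e : g * B.emb (jE bV) * g⁻¹ = B.emb (jE bV) := mul_inv_eq_iff_eq_mul.2 hb
    rw [← e]
    exact (show Commute (B.emb (jE x)) (B.emb (jE bV)) from JG_comm B (jE_mem B _) (jE_mem B _)).map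
      (MulAut.conj g).toMonoidHom
  have hcu : Commute h (B.emb (jE u')) := by
    rw [← hg]
    exact (show Commute (B.emb (jE x)) (B.emb (jE u)) from JG_comm B (jE_mem B _) (jE_mem B _)).map
      (MulAut.conj g).toMonoidHom
  obtain ⟨a, a1, a2, a3⟩ := shift_full u' hu'
  have hr : h ∈ B.ι.range := cent_full B a1 a2 a3 (by
    rcases bV_fix a with e | e | e <;> rw [e]
    · rw [add_zero]; exact hcu
    · rw [jE_add, map_mul]; exact (hcu.mul_right hcb).eq
    · rw [jE_add, jE_add, map_mul, map_mul]; exact (hcu.mul_right (hcb.mul_right hcb)).eq)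
  obtain ⟨v, k, p, e, hfix⟩ := range_fixB B hr hcb
  rw [← e] at hcu ⊢
  have h2 := mul_inv_eq_iff_eq_mul.2 hcu.eq
  rw [conj_emb] at h2
  obtain ⟨rfl, rfl⟩ := fixB_trivial k p u' 0 hfix hu'
    (by rw [diagV_zero, add_zero]; exact jE_inj (B.emb_inj h2))
  exact ⟨v, by rw [← sE_fix]; rfl⟩

/-- The centralizer of the product of two cycles. -/
abbrev Base.CB (B : Base G) : Subgroup G := centralizer ({B.emb (jE bV)} : Set G)

/-- An element of the group of order 27 in that centralizer. -/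
noncomputable def Base.jY (B : Base G) (v : V3) : B.CB :=
  ⟨B.emb (jE v), mem_centralizer_singleton_iff.2 (JG_comm B (jE_mem B _) (jE_mem B _))⟩

theorem jY_add (u v : V3) : B.jY (u + v) = B.jY u * B.jY v :=
  Subtype.ext (by simp [Base.jY, jE_add])

theorem jY_zero : B.jY 0 = 1 := Subtype.ext (by simp [Base.jY, jE_zero])

theorem jY_neg (v : V3) : B.jY (-v) = (B.jY v)⁻¹ :=
  eq_inv_of_mul_eq_one_left (by rw [← jY_add, neg_add_cancel, jY_zero])

/-- The group of order three generated by the product of two cycles. -/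
noncomputable def Base.zB (B : Base G) : Subgroup B.CB where
  carrier := {g | ∃ a, B.jY (diagV a) = g}
  one_mem' := ⟨0, by rw [diagV_zero, jY_zero]⟩
  mul_mem' := by
    rintro _ _ ⟨a, rfl⟩ ⟨b, rfl⟩
    exact ⟨a + b, by rw [diagV_add, jY_add]⟩
  inv_mem' := by
    rintro _ ⟨a, rfl⟩
    exact ⟨-a, by rw [diagV_neg, jY_neg]⟩

theorem diag_central (a : ZMod 3) (g : B.CB) : g * B.jY (diagV a) = B.jY (diagV a) * g := by
  refine Subtype.ext (show Commute (g : G) (B.emb (jE (diagV a))) from ?_)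
  have h : Commute (g : G) (B.emb (jE bV)) := mem_centralizer_singleton_iff.1 g.2
  rcases bV_fix a with e | e | e <;> rw [e]
  · rw [jE_zero, map_one]; exact Commute.one_right _
  · exact h
  · rw [jE_add, map_mul]; exact h.mul_right h

instance zB_normal : B.zB.Normal :=
  ⟨fun _ ⟨a, ha⟩ g => ⟨a, by rw [← ha, diag_central B a g, mul_inv_cancel_right]⟩⟩

/-- The quotient. -/
abbrev Base.XB (B : Base G) : Type u := B.CB ⧸ B.zB

/-- An element of the group of order nine of the quotient. -/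
noncomputable def Base.jX (B : Base G) (v : V3) : B.XB := QuotientGroup.mk' B.zB (B.jY v)

theorem jX_add (u v : V3) : B.jX (u + v) = B.jX u * B.jX v := by rw [Base.jX, jY_add, map_mul]; rfl

theorem jX_neg (v : V3) : B.jX (-v) = (B.jX v)⁻¹ := by rw [Base.jX, jY_neg, map_inv]; rfl

theorem jY_inj {u v : V3} (h : B.jY u = B.jY v) : u = v :=
  jE_inj (B.emb_inj (congrArg Subtype.val h))

theorem eq_of_jX {u : V3} {g : B.CB} (h : QuotientGroup.mk' B.zB g = B.jX u) :
    ∃ a, g = B.jY (u + diagV a) := by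
  obtain ⟨a, ha⟩ := QuotientGroup.eq.1 (Eq.symm h : (B.jY u : B.XB) = g)
  exact ⟨a, by rw [jY_add, ha, mul_inv_cancel_left]⟩

theorem jX_eq_iff {u v : V3} : B.jX u = B.jX v ↔ ∃ a, u = v + diagV a := by
  constructor
  · intro h
    obtain ⟨a, ha⟩ := eq_of_jX B h
    exact ⟨a, jY_inj B ha⟩
  · rintro ⟨a, rfl⟩
    rw [jX_add, show B.jX (diagV a) = 1 from (QuotientGroup.eq_one_iff _).2 ⟨a, rfl⟩, mul_one]

/-- The image of the group of order 27. -/
noncomputable def Base.PB (B : Base G) : Subgroup B.XB := (B.JG.subgroupOf B.CB).map (QuotientGroup.mk' B.zB)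

theorem JG_le_CB : B.JG ≤ B.CB := fun _ ⟨v, hv⟩ => hv ▸ (B.jY v).2

theorem mem_PB {x : B.XB} : x ∈ B.PB ↔ ∃ v, B.jX v = x := by
  constructor
  · rintro ⟨g, ⟨v, hv⟩, rfl⟩
    exact ⟨v, congrArg (QuotientGroup.mk' B.zB) (Subtype.ext hv : B.jY v = g)⟩
  · rintro ⟨v, rfl⟩
    exact ⟨B.jY v, jE_mem B v, rfl⟩

theorem card_PB : Nat.card B.PB = 9 := by
  rw [← Nat.card_congr (Equiv.ofBijective
    (fun t : ZMod 3 × ZMod 3 => (⟨B.jX (t.1, 0, t.2), (mem_PB B).2 ⟨_, rfl⟩⟩ : B.PB))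
    ⟨fun s t h => by
      obtain ⟨a, ha⟩ := (jX_eq_iff B).1 (congrArg Subtype.val h)
      exact Prod.ext (diag_inj _ _ _ _ _ ha).1 (diag_inj _ _ _ _ _ ha).2,
    fun ⟨x, hx⟩ => by
      obtain ⟨v, rfl⟩ := (mem_PB B).1 hx
      obtain ⟨i, j, a, e⟩ := diag_split v
      exact ⟨(i, j), Subtype.ext ((jX_eq_iff B).2 ⟨a, e⟩).symm⟩⟩)]
  simp

/-- The three lines. -/
noncomputable def Base.wB (B : Base G) (i : Fin 3) : B.XB := B.jX ((i.val : ZMod 3), 0, 1)

theorem cent_wB [Finite G] (i : Fin 3) : centralizer ({B.wB i} : Set B.XB) = B.PB := by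
  refine le_antisymm (fun x hx => ?_) (fun x hx => ?_)
  · obtain ⟨g, rfl⟩ := QuotientGroup.mk'_surjective B.zB x
    have h1 := mul_inv_eq_iff_eq_mul.2 (mem_centralizer_singleton_iff.1 hx)
    rw [Base.wB, Base.jX, ← map_inv, ← map_mul, ← map_mul] at h1
    obtain ⟨a, ha⟩ := eq_of_jX B h1
    have hg := congrArg Subtype.val ha
    simp only [Subgroup.coe_mul, Subgroup.coe_inv, Base.jY] at hg
    have hb := mem_centralizer_singleton_iff.1 g.2
    have hr := range_of_map B hb (u' := ((i.val : ZMod 3), 0, 1) + diagV a) (by simp [diagV]) hg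
    obtain ⟨v, k, p, e, hfix⟩ := range_fixB B hr hb
    rw [← e, conj_emb] at hg
    obtain ⟨rfl, rfl⟩ := fixB_trivial k p _ a hfix (by simp) (jE_inj (B.emb_inj hg))
    exact ⟨g, ⟨v, by rw [← sE_fix]; exact e⟩, rfl⟩
  · obtain ⟨v, rfl⟩ := (mem_PB B).1 hx
    exact mem_centralizer_singleton_iff.2 (by rw [Base.wB, ← jX_add, ← jX_add, add_comm])

theorem mem_JG_of_square [Finite G] {g : G} (h2 : g * g ∈ B.JG) {k : ℕ} (h : g ^ 3 ^ k = 1) : g ∈ B.JG := by
  obtain ⟨n, hn⟩ := (show Odd (3 ^ k) from Odd.pow (by decide))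
  have hg : g = (g * g) ^ (n + 1) := by
    rw [← pow_two, ← pow_mul, show 2 * (n + 1) = 3 ^ k + 1 by omega, pow_succ, h, one_mul]
  rw [hg]
  exact B.JG.pow_mem h2 _

theorem sylow_CB [Finite G] : ∃ P : Sylow 3 B.CB, (P : Subgroup B.CB) = B.JG.subgroupOf B.CB := by
  haveI : Fact (Nat.Prime 3) := ⟨by norm_num⟩
  have hp : IsPGroup 3 (B.JG.subgroupOf B.CB) := IsPGroup.of_card (n := 3) (by
    rw [Nat.card_congr (subgroupOfEquivOfLe (JG_le_CB B)).toEquiv, card_JG]; rfl)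
  obtain ⟨P, hP⟩ := hp.exists_le_sylow
  refine ⟨P, eq_of_selfNormalizing P.2 hP fun x hx hxn => mem_subgroupOf.2 ?_⟩
  have hr : (x : G) ∈ B.ι.range := B.mem_range_iff.2 fun v =>
    (mem_normalizer_iff.1 hxn (B.jY v)).1 (jE_mem B v)
  obtain ⟨v, k, p, e, hfix⟩ := range_fixB B hr (mem_centralizer_singleton_iff.1 x.2)
  have h2 : (x : G) * x ∈ B.JG := by
    rw [← e, ← map_mul]
    refine ⟨(mE v k p * mE v k p).1.v, congrArg B.emb (Subtype.ext ?_)⟩
    have hw : (mE v k p * mE v k p).1.w = 1 := fixB_sq k p hfix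
    simp only [jE, jM]
    rw [← hw]
  obtain ⟨n, hn⟩ := P.2 ⟨x, hx⟩
  exact mem_JG_of_square B h2 (k := n) (by
    have := congrArg (fun y : (P : Subgroup B.CB) => ((y : B.CB) : G)) hn
    simpa using this)

theorem sylow_XB [Finite G] : ∃ P : Sylow 3 B.XB, (P : Subgroup B.XB) = B.PB := by
  haveI : Fact (Nat.Prime 3) := ⟨by norm_num⟩
  obtain ⟨P, hP⟩ := sylow_CB B
  exact ⟨P.mapSurjective (QuotientGroup.mk'_surjective B.zB), by rw [Sylow.coe_mapSurjective, hP]; rfl⟩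

theorem wB_fused [Finite G] {i : Fin 3} {v : V3} (h : IsConj (B.wB i) (B.jX v)) :
    fusedB ((i.val : ZMod 3), 0, 1) v := by
  obtain ⟨y, hy⟩ := isConj_iff.1 h
  have hP : ∀ z ∈ B.PB, y * z * y⁻¹ ∈ B.PB := by
    intro z hz
    have hc : B.PB = centralizer ({B.jX v} : Set B.XB) := by
      refine eq_of_le_of_card_ge (fun w hw => ?_) ?_
      · obtain ⟨u, rfl⟩ := (mem_PB B).1 hw
        exact mem_centralizer_singleton_iff.2 (by rw [← jX_add, ← jX_add, add_comm])
      · rw [← cent_wB B i]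
        refine Nat.card_le_card_of_injective
          (fun w => ⟨y⁻¹ * (w : B.XB) * y, mem_centralizer_singleton_iff.2 ?_⟩)
          fun a b hab => Subtype.ext (mul_left_cancel (mul_right_cancel (congrArg Subtype.val hab)))
        have hw : (w : B.XB) * (y * B.wB i * y⁻¹) = y * B.wB i * y⁻¹ * (w : B.XB) :=
          hy.symm ▸ mem_centralizer_singleton_iff.1 w.2
        calc y⁻¹ * (w : B.XB) * y * B.wB i = y⁻¹ * ((w : B.XB) * (y * B.wB i * y⁻¹)) * y := by group
          _ = y⁻¹ * (y * B.wB i * y⁻¹ * (w : B.XB)) * y := by rw [hw]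
          _ = B.wB i * (y⁻¹ * (w : B.XB) * y) := by group
    rw [hc]
    refine mem_centralizer_singleton_iff.2 ?_
    rw [← hy]
    have hz' := mem_centralizer_singleton_iff.1 ((cent_wB B i).ge hz)
    calc y * z * y⁻¹ * (y * B.wB i * y⁻¹) = y * (z * B.wB i) * y⁻¹ := by group
      _ = y * (B.wB i * z) * y⁻¹ := by rw [hz']
      _ = _ := by group
  obtain ⟨g, rfl⟩ := QuotientGroup.mk'_surjective B.zB y
  have hr : (g : G) ∈ B.ι.range := B.mem_range_iff.2 fun u => by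
    have h1 := hP _ ((mem_PB B).2 ⟨u, rfl⟩)
    obtain ⟨u', hu'⟩ := (mem_PB B).1 h1
    obtain ⟨a, ha⟩ := eq_of_jX B (g := g * B.jY u * g⁻¹) (by rw [map_mul, map_mul, map_inv]; exact hu'.symm)
    exact ⟨u' + diagV a, (congrArg Subtype.val ha).symm⟩
  obtain ⟨x, k, p, e, hfix⟩ := range_fixB B hr (mem_centralizer_singleton_iff.1 g.2)
  obtain ⟨a, ha⟩ := eq_of_jX B (g := g * B.jY ((i.val : ZMod 3), 0, 1) * g⁻¹)
    (by rw [map_mul, map_mul, map_inv]; exact hy)
  have ha' := congrArg Subtype.val ha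
  simp only [Subgroup.coe_mul, Subgroup.coe_inv, Base.jY] at ha'
  rw [← e, conj_emb] at ha'
  exact ⟨k, p, a, hfix, jE_inj (B.emb_inj ha')⟩

theorem wB_real (i : Fin 3) : IsConj (B.wB i) (B.wB i)⁻¹ := by
  obtain ⟨k, p, hfix, hi⟩ := fixB_inverts
  obtain ⟨a, ha⟩ := hi i
  have hmem : B.emb (mE 0 k p) ∈ B.CB := mem_centralizer_singleton_iff.2
    (mul_inv_eq_iff_eq_mul.1 (by rw [conj_emb, hfix]))
  refine isConj_iff.2 ⟨QuotientGroup.mk' B.zB ⟨_, hmem⟩, ?_⟩
  rw [← map_inv, Base.wB, ← jX_neg, ← show B.jX (-((i.val : ZMod 3), 0, 1) + diagV a) =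
    B.jX (-((i.val : ZMod 3), 0, 1)) from (jX_eq_iff B).2 ⟨a, rfl⟩, ← ha, Base.jX, Base.jX, ← map_mul,
    ← map_mul]
  exact congrArg _ (Subtype.ext (by
    simp only [Subgroup.coe_mul, Subgroup.coe_inv, Base.jY]
    exact conj_emb B 0 _ k p))

theorem exists_eta [Finite G] : ∃ η : B.XB →* ℂˣ, η ≠ 1 ∧ ∀ x ∈ B.PB, η x = 1 := by
  haveI : Fact (Nat.Prime 3) := ⟨by norm_num⟩
  obtain ⟨P, hP⟩ := sylow_XB B
  have hexp : ∀ a ∈ (P : Subgroup B.XB), a ^ 3 = 1 := by
    intro a ha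
    rw [hP] at ha
    obtain ⟨v, rfl⟩ := (mem_PB B).1 ha
    rw [Base.jX, ← map_pow, show B.jY v ^ 3 = 1 from Subtype.ext (by
      simp [Base.jY, ← map_pow, jE_cube]), map_one]
  have hcomm : ∀ a ∈ (P : Subgroup B.XB), ∀ b ∈ (P : Subgroup B.XB), a * b = b * a := by
    intro a ha b hb
    rw [hP] at ha hb
    obtain ⟨v, rfl⟩ := (mem_PB B).1 ha
    obtain ⟨w, rfl⟩ := (mem_PB B).1 hb
    rw [← jX_add, ← jX_add, add_comm]
  have hcube : ∀ i, B.wB i ^ 3 = 1 := fun i => hexp _ (hP ▸ (mem_PB B).2 ⟨_, rfl⟩)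
  suffices H : ∃ η : B.XB →* ℂˣ, η ≠ 1 ∧ ∀ i, η (B.wB i) = 1 by
    obtain ⟨η, hη, hw⟩ := H
    refine ⟨η, hη, fun x hx => ?_⟩
    obtain ⟨v, rfl⟩ := (mem_PB B).1 hx
    have hgen : ∀ v : V3, ∃ (m n : ℕ) (a : ZMod 3), v = m • ((0, 0, 1) : V3) + n • ((1, 0, 1) : V3) + diagV a := by
      intro v
      obtain ⟨i, j, a, e⟩ := diag_split v
      refine ⟨(j - i).val, i.val, a, e.trans ?_⟩
      simp [Prod.smul_def]
    obtain ⟨m, n, a, e⟩ := hgen v
    have hsm : ∀ (m : ℕ) (u : V3), B.jX (m • u) = B.jX u ^ m := by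
      intro m u
      induction m with
      | zero => rw [zero_smul, pow_zero, Base.jX, jY_zero, map_one]
      | succ m ih => rw [succ_nsmul, jX_add, ih, pow_succ]
    rw [(jX_eq_iff B).2 ⟨a, e⟩, jX_add, hsm, hsm, map_mul, map_pow, map_pow,
      show B.jX (0, 0, 1) = B.wB 0 by rfl, show B.jX (1, 0, 1) = B.wB 1 by rfl, hw, hw, one_pow, one_pow,
      mul_one]
  refine LineChar.exists_linear B.wB (fun i h => ?_) hcube (wB_real B)
    (fun i => by rw [cent_wB, card_PB]) (fun i j hij h => ?_) (fun x y hx hy hxy => ?_)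
  · obtain ⟨a, ha⟩ := (jX_eq_iff B).1 (h.trans (by rw [Base.jX, jY_zero, map_one] : (1 : B.XB) = B.jX 0))
    rw [zero_add] at ha
    exact line_ne i a ha
  · obtain ⟨k, p, a, hfix, e⟩ := wB_fused B h
    exact hij (fixB_lines i j k p a hfix e)
  · obtain ⟨c, hc⟩ := isConj_iff.1 hx
    set y' := c⁻¹ * y * c with hy'
    have hy0 : IsConj (B.wB 0) y' := hy.trans (isConj_iff.2 ⟨c⁻¹, by rw [hy', inv_inv]⟩)
    have hxy' : IsConj (B.wB 1) (B.wB 0 * y') := hxy.trans (isConj_iff.2 ⟨c⁻¹, by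
      rw [hy', ← hc]; group⟩)
    have hy3 : y' ^ 3 = 1 := by
      obtain ⟨d, hd⟩ := isConj_iff.1 hy0
      rw [← hd, conj_pow, hcube, mul_one, mul_inv_cancel]
    have hxy3 : (B.wB 0 * y') ^ 3 = 1 := by
      obtain ⟨d, hd⟩ := isConj_iff.1 hxy'
      rw [← hd, conj_pow, hcube, mul_one, mul_inv_cancel]
    obtain ⟨t, -, htc, h1, h2⟩ := conj_of_triangle P hexp hcomm (hcube 0) hy3 hxy3
    obtain ⟨v, rfl⟩ := (mem_PB B).1 ((cent_wB B 0).le (mem_centralizer_singleton_iff.2 htc.eq))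
    have e0 : B.wB 0 = B.jX (0, 0, 1) := rfl
    have f1 : IsConj (B.wB 0) (B.jX (v + (0, 0, 1))) := by
      rw [jX_add, ← e0]; exact hy0.trans h1.symm
    have f2 : IsConj (B.wB 1) (B.jX (-v + (0, 0, 1))) := by
      rw [jX_add, jX_neg, ← e0]
      have hinv : IsConj (B.wB 1)⁻¹ (B.wB 0 * y')⁻¹ := by
        obtain ⟨d, hd⟩ := isConj_iff.1 hxy'
        exact isConj_iff.2 ⟨d, by rw [← hd]; group⟩
      exact (wB_real B 1).trans (hinv.trans h2.symm)
    exact fixB_triangle v (wB_fused B f1) (wB_fused B f2)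

theorem cent_b [Finite G] {h : HM} (hh : (h : Equiv.Perm (Fin 9)) = c1 * c2) :
    centralizer ({B.ι h} : Set G) ≤ B.ι.range := by
  haveI : Fact (Nat.Prime 3) := ⟨by norm_num⟩
  rw [B.iota_jE (hh.trans bV_eq)]
  obtain ⟨η, hη, hηP⟩ := exists_eta B
  set f : B.CB →* ℂˣ := η.comp (QuotientGroup.mk' B.zB) with hf
  obtain ⟨P, hP⟩ := sylow_CB B
  have hPK : (P : Subgroup B.CB) ≤ f.ker := fun g hg => by
    rw [hP] at hg
    exact hηP _ ⟨g, hg, rfl⟩
  have hnone : ∀ g : G, g ∈ f.ker.map B.CB.subtype → g ∈ normalizer (B.JG : Set G) → g ∈ B.JG := by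
    rintro _ ⟨g, hgK, rfl⟩ hgn
    obtain ⟨v, k, p, e, hfix⟩ := range_fixB B (normalizer_JG_le B hgn) (mem_centralizer_singleton_iff.1 g.2)
    by_cases hkp : k = 0 ∧ p = 0
    · obtain ⟨rfl, rfl⟩ := hkp
      exact ⟨v, by rw [← sE_fix]; exact e⟩
    exfalso
    have htop : f.ker = ⊤ := by
      have hfr := Sylow.normalizer_sup_eq_top (P.subtype hPK)
      refine top_le_iff.1 (hfr ▸ sup_le (fun n hn => ?_) le_rfl)
      rw [Sylow.coe_subtype, subgroupOf_map_subtype, inf_eq_left.2 hPK, hP] at hn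
      have hnr : (n : G) ∈ B.ι.range := B.mem_range_iff.2 fun u =>
        (mem_normalizer_iff.1 hn (B.jY u)).1 (jE_mem B u)
      obtain ⟨v', k', p', e', hfix'⟩ := range_fixB B hnr (mem_centralizer_singleton_iff.1 n.2)
      by_cases hkp' : k' = 0 ∧ p' = 0
      · obtain ⟨rfl, rfl⟩ := hkp'
        exact hPK (hP.symm ▸ mem_subgroupOf.2 ⟨v', by rw [← sE_fix]; exact e'⟩)
      obtain ⟨rfl, rfl⟩ := fixB_two k p hfix k' p' hfix' hkp hkp'
      have hq : n * g⁻¹ ∈ f.ker := hPK (hP.symm ▸ mem_subgroupOf.2 ⟨v' - v, by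
        rw [Subgroup.coe_mul, Subgroup.coe_inv, ← e', show (g : G) = B.emb (mE v k p) from e.symm,
          eq_mul_inv_iff_mul_eq, ← map_mul]
        refine congrArg B.emb (Subtype.ext ?_)
        show (⟨v' - v + wact 1 v, 1 * evW k p⟩ : Mn) = ⟨v', evW k p⟩
        rw [wact_one, sub_add_cancel, (by decide +kernel : ∀ w : Wt, 1 * w = w)]⟩)
      have := mul_mem hq hgK
      rwa [inv_mul_cancel_right] at this
    refine hη (MonoidHom.ext fun x => ?_)
    obtain ⟨y, rfl⟩ := QuotientGroup.mk'_surjective B.zB x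
    exact MonoidHom.mem_ker.1 (htop ▸ mem_top y : y ∈ f.ker)
  have hcore : Cfsg.pPrimeCore 3 (f.ker.map B.CB.subtype : Subgroup G) = ⊥ := by
    have hY : Cfsg.pPrimeCore 3 B.CB = ⊥ := B.cores_emb (jE_ne _ bV_ne) (jE_cube _)
    have h1 : (Cfsg.pPrimeCore 3 f.ker).map f.ker.subtype = ⊥ :=
      le_bot_iff.1 (hY ▸ Cfsg.Agent.PLocal.Cores.map_subtype_pPrimeCore_le f.ker)
    rw [map_eq_bot_iff_of_injective _ f.ker.subtype_injective] at h1
    rw [← Cfsg.Agent.PLocal.Cores.map_pPrimeCore_equiv (equivMapOfInjective f.ker B.CB.subtype B.CB.subtype_injective),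
      h1, Subgroup.map_bot]
  have hK := eq_of_abelian_selfNormalizing (E := B.JG) hcore
    (fun g hg => ⟨⟨g, JG_le_CB B hg⟩, hPK (hP.symm ▸ hg), rfl⟩)
    (fun a ⟨v, hv⟩ => by rw [← hv, ← map_pow, jE_cube, map_one]) (fun a ha b hb => JG_comm B ha hb) hnone
  refine fun g hg => B.mem_range_iff.2 fun v => ?_
  rw [← hK]
  refine ⟨⟨g, hg⟩ * B.jY v * ⟨g, hg⟩⁻¹, ?_, rfl⟩
  exact (MonoidHom.normal_ker f).conj_mem _ (hPK (hP.symm ▸ jE_mem B v)) _

end Cfsg.Agent.A9Local
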