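import Cfsg.Agent.Lib.A9Local.LocalA6
import Cfsg.Agent.Lib.A9Local.LocalB

/-!
# The centralizer of the first three-cycle modulo that cycle: set-up

Its Sylow subgroup of order nine is the centralizer of each of its non-identity elements and its
normalizer induces a cyclic group of order four on it.
-/

set_option autoImplicit false
set_option linter.style.haveILetI false
set_option maxRecDepth 100000
set_option synthInstance.maxSize 10000

namespace Cfsg.Agent.A9Local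

open Subgroup Cfsg.Agent.NineSym

universe u

variable {G : Type u} [Group G]

/-- The first vector. -/
def aV : V3 := (1, 0, 0)

/-- The multiples of the first vector. -/
def diagA (t : ZMod 3) : V3 := (t, 0, 0)

/-- The vector is outside the line of the first vector. -/
def offA (v : V3) : Prop := v.2.1 ≠ 0 ∨ v.2.2 ≠ 0

instance : DecidablePred offA := fun v => by unfold offA; infer_instance

theorem aV_ne : aV ≠ 0 := by decide

theorem aV_eq : c1 = jP aV := by decide +kernel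

theorem bV_conj : ∀ v : V3, (v.1 = 0 ∧ v.2.1 ≠ 0 ∧ v.2.2 ≠ 0) ∨ (v.2.1 = 0 ∧ v.1 ≠ 0 ∧ v.2.2 ≠ 0) ∨
    (v.2.2 = 0 ∧ v.1 ≠ 0 ∧ v.2.1 ≠ 0) →
    ∃ k p, wact (evW k p) bV = v ∨ wact (evW k p) bV = -v := by decide +kernel

theorem shift_two : ∀ v : V3, offA v → ∃ t, t ≠ 0 ∧ (v + diagA t).1 ≠ 0 ∧
    ((v + diagA t).2.1 ≠ 0 ∨ (v + diagA t).2.2 ≠ 0) := by decide +kernel

theorem fixA_trivial : ∀ (k : Fin 4) (p : Fin 6) (v : V3) (t : ZMod 3), wact (evW k p) aV = aV → offA v →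
    wact (evW k p) v = v + diagA t → k = 0 ∧ p = 0 := by decide +kernel

theorem fixA_four : ∀ (k : Fin 4) (p : Fin 6), wact (evW k p) aV = aV →
    (evW k p * evW k p) * (evW k p * evW k p) = 1 := by decide +kernel

theorem fixA_pow : ∀ (k : Fin 4) (p : Fin 6), wact (evW k p) aV = aV →
    ∃ m : Fin 4, mE 0 k p = i4 ^ m.val := by decide +kernel

theorem fixA_notconj : ∀ (k : Fin 4) (p : Fin 6) (t : ZMod 3), wact (evW k p) aV = aV →
    wact (evW k p) (0, 1, 0) ≠ (0, 1, 1) + diagA t := by decide +kernel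

theorem i4_vals : wact i4.1.w aV = aV ∧ wact i4.1.w (0, 1, 0) = (0, 0, 1) ∧
    wact i4.1.w (0, 0, 1) = -(0, 1, 0) := by decide +kernel

theorem i4_span : ∀ v u : V3, offA v → ∃ (a b : Fin 3) (t : ZMod 3),
    u = a.val • v + b.val • wact i4.1.w v + diagA t := by decide +kernel

theorem diagA_split : ∀ v : V3, ∃ (i j t : ZMod 3), v = (0, i, j) + diagA t := by decide +kernel

theorem diagA_inj : ∀ (i j i' j' t : ZMod 3), ((0, i, j) : V3) = (0, i', j') + diagA t → i = i' ∧ j = j' := by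
  decide +kernel

theorem offA_iff : ∀ v : V3, offA v ↔ ¬ ∃ t, v = diagA t := by decide +kernel

theorem aV_mult : ∀ t : ZMod 3, diagA t = 0 ∨ diagA t = aV ∨ diagA t = aV + aV := by decide +kernel

theorem mE_split : ∀ (v : V3) (k : Fin 4) (p : Fin 6), mE v k p = jE v * mE 0 k p := by decide +kernel

theorem diagA_add : ∀ a b : ZMod 3, diagA (a + b) = diagA a + diagA b := fun a b => by simp [diagA]

theorem diagA_neg : ∀ a : ZMod 3, diagA (-a) = -diagA a := fun a => by simp [diagA]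

variable (B : Base G)

theorem cent_conj_range [Finite G] {q : Me} {v : V3}
    (h : ∀ g, g * B.emb (jE v) = B.emb (jE v) * g → g ∈ B.ι.range) {g : G}
    (hg : g * B.emb (jE (wact q.1.w v)) = B.emb (jE (wact q.1.w v)) * g) : g ∈ B.ι.range := by
  have hc : B.emb (jE (wact q.1.w v)) = B.emb q * B.emb (jE v) * (B.emb q)⁻¹ := by
    rw [eq_mul_inv_iff_mul_eq, ← map_mul, ← map_mul, conj_jE]
  rw [hc] at hg
  have h1 := h ((B.emb q)⁻¹ * g * B.emb q) (by
    calc (B.emb q)⁻¹ * g * B.emb q * B.emb (jE v)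
        = (B.emb q)⁻¹ * (g * (B.emb q * B.emb (jE v) * (B.emb q)⁻¹)) * B.emb q := by group
      _ = (B.emb q)⁻¹ * ((B.emb q * B.emb (jE v) * (B.emb q)⁻¹) * g) * B.emb q := by rw [hg]
      _ = _ := by group)
  have := mul_mem (mul_mem (B.emb_mem q) h1) (inv_mem (B.emb_mem q))
  rwa [show B.emb q * ((B.emb q)⁻¹ * g * B.emb q) * (B.emb q)⁻¹ = g by group] at this

/-- The centralizers of the elements of weight at least two lie in the normalizer. -/
theorem cent_two [Finite G] {v : V3} (h1 : v.1 ≠ 0) (h23 : v.2.1 ≠ 0 ∨ v.2.2 ≠ 0) {g : G}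
    (hg : g * B.emb (jE v) = B.emb (jE v) * g) : g ∈ B.ι.range := by
  by_cases hall : v.2.1 ≠ 0 ∧ v.2.2 ≠ 0
  · exact cent_full B h1 hall.1 hall.2 hg
  obtain ⟨k, p, hw⟩ := bV_conj v (by
    rw [not_and_or, not_not, not_not] at hall
    rcases hall with e | e
    · exact Or.inr (Or.inl ⟨e, h1, h23.resolve_left (not_not.2 e)⟩)
    · exact Or.inr (Or.inr ⟨e, h1, h23.resolve_right (not_not.2 e)⟩))
  refine cent_conj_range B (q := mE 0 k p) (v := bV) (fun x hx =>
    cent_b B (h := toHM (jE bV)) ((toHM_jE _).trans bV_eq.symm) (mem_centralizer_singleton_iff.2 hx)) ?_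
  rw [mE_w]
  rcases hw with hw | hw
  · rw [hw]; exact hg
  · rw [hw, jE_neg, map_inv]
    exact (show Commute g (B.emb (jE v)) from hg).inv_right.eq

/-- The centralizer of the first cycle. -/
abbrev Base.CA (B : Base G) : Subgroup G := centralizer ({B.emb (jE aV)} : Set G)

/-- An element of the group of order 27 in that centralizer. -/
noncomputable def Base.jA (B : Base G) (v : V3) : B.CA :=
  ⟨B.emb (jE v), mem_centralizer_singleton_iff.2 (JG_comm B (jE_mem B _) (jE_mem B _))⟩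

theorem jA_add (u v : V3) : B.jA (u + v) = B.jA u * B.jA v := Subtype.ext (by simp [Base.jA, jE_add])

theorem jA_zero : B.jA 0 = 1 := Subtype.ext (by simp [Base.jA, jE_zero])

theorem jA_neg (v : V3) : B.jA (-v) = (B.jA v)⁻¹ :=
  eq_inv_of_mul_eq_one_left (by rw [← jA_add, neg_add_cancel, jA_zero])

theorem jA_inj {u v : V3} (h : B.jA u = B.jA v) : u = v := jE_inj (B.emb_inj (congrArg Subtype.val h))

theorem JG_le_CA : B.JG ≤ B.CA := fun _ ⟨v, hv⟩ => hv ▸ (B.jA v).2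

/-- The group generated by the first cycle. -/
noncomputable def Base.zA (B : Base G) : Subgroup B.CA where
  carrier := {g | ∃ t, B.jA (diagA t) = g}
  one_mem' := ⟨0, by rw [show diagA 0 = 0 from rfl, jA_zero]⟩
  mul_mem' := by
    rintro _ _ ⟨a, rfl⟩ ⟨b, rfl⟩
    exact ⟨a + b, by rw [diagA_add, jA_add]⟩
  inv_mem' := by
    rintro _ ⟨a, rfl⟩
    exact ⟨-a, by rw [diagA_neg, jA_neg]⟩

theorem diagA_central (t : ZMod 3) (g : B.CA) : g * B.jA (diagA t) = B.jA (diagA t) * g := by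
  refine Subtype.ext (show Commute (g : G) (B.emb (jE (diagA t))) from ?_)
  have h : Commute (g : G) (B.emb (jE aV)) := mem_centralizer_singleton_iff.1 g.2
  rcases aV_mult t with e | e | e <;> rw [e]
  · rw [jE_zero, map_one]; exact Commute.one_right _
  · exact h
  · rw [jE_add, map_mul]; exact h.mul_right h

instance zA_normal : B.zA.Normal :=
  ⟨fun _ ⟨a, ha⟩ g => ⟨a, by rw [← ha, diagA_central B a g, mul_inv_cancel_right]⟩⟩

theorem card_zA : Nat.card B.zA = 3 := by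
  rw [← Nat.card_congr (Equiv.ofBijective (fun t : ZMod 3 => (⟨_, t, rfl⟩ : B.zA))
    ⟨fun s t h => congrArg Prod.fst (jA_inj B (congrArg Subtype.val h)),
      fun ⟨g, t, ht⟩ => ⟨t, Subtype.ext ht⟩⟩)]
  simp

/-- The quotient. -/
abbrev Base.XA (B : Base G) : Type u := B.CA ⧸ B.zA

/-- An element of the group of order nine of the quotient. -/
noncomputable def Base.kA (B : Base G) (v : V3) : B.XA := QuotientGroup.mk' B.zA (B.jA v)

theorem kA_add (u v : V3) : B.kA (u + v) = B.kA u * B.kA v := by rw [Base.kA, jA_add, map_mul]; rfl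

theorem kA_neg (v : V3) : B.kA (-v) = (B.kA v)⁻¹ := by rw [Base.kA, jA_neg, map_inv]; rfl

theorem eq_of_kA {u : V3} {g : B.CA} (h : QuotientGroup.mk' B.zA g = B.kA u) :
    ∃ t, g = B.jA (u + diagA t) := by
  obtain ⟨a, ha⟩ := QuotientGroup.eq.1 (Eq.symm h : (B.jA u : B.XA) = g)
  exact ⟨a, by rw [jA_add, ha, mul_inv_cancel_left]⟩

theorem kA_eq_iff {u v : V3} : B.kA u = B.kA v ↔ ∃ t, u = v + diagA t := by
  constructor
  · intro h
    obtain ⟨a, ha⟩ := eq_of_kA B h
    exact ⟨a, jA_inj B ha⟩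
  · rintro ⟨a, rfl⟩
    rw [kA_add, show B.kA (diagA a) = 1 from (QuotientGroup.eq_one_iff _).2 ⟨a, rfl⟩, mul_one]

theorem kA_zero : B.kA 0 = 1 := by rw [Base.kA, jA_zero, map_one]

theorem kA_ne_one {v : V3} : B.kA v ≠ 1 ↔ offA v := by
  rw [offA_iff, ne_eq, ← kA_zero B, kA_eq_iff]
  simp

theorem kA_nsmul (m : ℕ) (v : V3) : B.kA (m • v) = B.kA v ^ m := by
  induction m with
  | zero => rw [zero_smul, pow_zero, kA_zero]
  | succ m ih => rw [succ_nsmul, kA_add, ih, pow_succ]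

/-- The image of the group of order 27. -/
noncomputable def Base.PA (B : Base G) : Subgroup B.XA := (B.JG.subgroupOf B.CA).map (QuotientGroup.mk' B.zA)

theorem mem_PA {x : B.XA} : x ∈ B.PA ↔ ∃ v, B.kA v = x := by
  constructor
  · rintro ⟨g, ⟨v, hv⟩, rfl⟩
    exact ⟨v, congrArg (QuotientGroup.mk' B.zA) (Subtype.ext hv : B.jA v = g)⟩
  · rintro ⟨v, rfl⟩
    exact ⟨B.jA v, jE_mem B v, rfl⟩

theorem card_PA : Nat.card B.PA = 9 := by
  rw [← Nat.card_congr (Equiv.ofBijective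
    (fun t : ZMod 3 × ZMod 3 => (⟨B.kA (0, t.1, t.2), (mem_PA B).2 ⟨_, rfl⟩⟩ : B.PA))
    ⟨fun s t h => by
      obtain ⟨a, ha⟩ := (kA_eq_iff B).1 (congrArg Subtype.val h)
      exact Prod.ext (diagA_inj _ _ _ _ _ ha).1 (diagA_inj _ _ _ _ _ ha).2,
    fun ⟨x, hx⟩ => by
      obtain ⟨v, rfl⟩ := (mem_PA B).1 hx
      obtain ⟨i, j, a, e⟩ := diagA_split v
      exact ⟨(i, j), Subtype.ext ((kA_eq_iff B).2 ⟨a, e⟩).symm⟩⟩)]
  simp

theorem PA_comm {x y : B.XA} (hx : x ∈ B.PA) (hy : y ∈ B.PA) : x * y = y * x := by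
  obtain ⟨u, rfl⟩ := (mem_PA B).1 hx
  obtain ⟨v, rfl⟩ := (mem_PA B).1 hy
  rw [← kA_add, ← kA_add, add_comm]

theorem PA_cube {x : B.XA} (hx : x ∈ B.PA) : x ^ 3 = 1 := by
  obtain ⟨u, rfl⟩ := (mem_PA B).1 hx
  rw [Base.kA, ← map_pow, show B.jA u ^ 3 = 1 from Subtype.ext (by
    simp [Base.jA, ← map_pow, jE_cube]), map_one]

theorem range_fixA {g : G} (hg : g ∈ B.ι.range) (ha : g * B.emb (jE aV) = B.emb (jE aV) * g) :
    ∃ v k p, B.emb (mE v k p) = g ∧ wact (evW k p) aV = aV := by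
  obtain ⟨q, rfl, hq⟩ := range_comm B hg ha
  obtain ⟨v, k, p, rfl⟩ := mE_surj q
  rw [conj_jE] at hq
  exact ⟨v, k, p, rfl, jE_inj (mul_right_cancel hq)⟩

/-- An element of the centralizer mapping a vector off the line into the group of order 27. -/
theorem range_of_mapA [Finite G] {g : G} (ha : g * B.emb (jE aV) = B.emb (jE aV) * g) {u u' : V3}
    (hu' : offA u') (hg : g * B.emb (jE u) * g⁻¹ = B.emb (jE u')) : g ∈ B.ι.range := by
  refine B.mem_range_iff.2 fun x => ?_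
  set h := g * B.emb (jE x) * g⁻¹ with hh
  have hca : Commute h (B.emb (jE aV)) := by
    have e : g * B.emb (jE aV) * g⁻¹ = B.emb (jE aV) := mul_inv_eq_iff_eq_mul.2 ha
    rw [← e]
    exact (show Commute (B.emb (jE x)) (B.emb (jE aV)) from JG_comm B (jE_mem B _) (jE_mem B _)).map
      (MulAut.conj g).toMonoidHom
  have hcu : Commute h (B.emb (jE u')) := by
    rw [← hg]
    exact (show Commute (B.emb (jE x)) (B.emb (jE u)) from JG_comm B (jE_mem B _) (jE_mem B _)).map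
      (MulAut.conj g).toMonoidHom
  obtain ⟨t, -, t1, t23⟩ := shift_two u' hu'
  have hr : h ∈ B.ι.range := cent_two B t1 t23 (by
    rcases aV_mult t with e | e | e <;> rw [e]
    · rw [add_zero]; exact hcu
    · rw [jE_add, map_mul]; exact (hcu.mul_right hca).eq
    · rw [jE_add, jE_add, map_mul, map_mul]; exact (hcu.mul_right (hca.mul_right hca)).eq)
  obtain ⟨v, k, p, e, hfix⟩ := range_fixA B hr hca
  rw [← e] at hcu ⊢
  have h2 := mul_inv_eq_iff_eq_mul.2 hcu.eq
  rw [conj_emb] at h2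
  obtain ⟨rfl, rfl⟩ := fixA_trivial k p u' 0 hfix hu'
    (by rw [show diagA 0 = 0 from rfl, add_zero]; exact jE_inj (B.emb_inj h2))
  exact ⟨v, by rw [← sE_fix]; rfl⟩

theorem cent_kA [Finite G] {v : V3} (hv : offA v) : centralizer ({B.kA v} : Set B.XA) = B.PA := by
  refine le_antisymm (fun x hx => ?_) (fun x hx => ?_)
  · obtain ⟨g, rfl⟩ := QuotientGroup.mk'_surjective B.zA x
    have h1 := mul_inv_eq_iff_eq_mul.2 (mem_centralizer_singleton_iff.1 hx)
    rw [Base.kA, ← map_inv, ← map_mul, ← map_mul] at h1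
    obtain ⟨a, ha⟩ := eq_of_kA B h1
    have hg := congrArg Subtype.val ha
    simp only [Subgroup.coe_mul, Subgroup.coe_inv, Base.jA] at hg
    have hb := mem_centralizer_singleton_iff.1 g.2
    have hr := range_of_mapA B hb (u' := v + diagA a) (by simpa [offA, diagA] using hv) hg
    obtain ⟨w, k, p, e, hfix⟩ := range_fixA B hr hb
    rw [← e, conj_emb] at hg
    obtain ⟨rfl, rfl⟩ := fixA_trivial k p _ a hfix hv (jE_inj (B.emb_inj hg))
    exact ⟨g, ⟨w, by rw [← sE_fix]; exact e⟩, rfl⟩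
  · exact mem_centralizer_singleton_iff.2 (PA_comm B hx ((mem_PA B).2 ⟨v, rfl⟩))

theorem sylow_CA [Finite G] : ∃ P : Sylow 3 B.CA, (P : Subgroup B.CA) = B.JG.subgroupOf B.CA := by
  haveI : Fact (Nat.Prime 3) := ⟨by norm_num⟩
  have hp : IsPGroup 3 (B.JG.subgroupOf B.CA) := IsPGroup.of_card (n := 3) (by
    rw [Nat.card_congr (subgroupOfEquivOfLe (JG_le_CA B)).toEquiv, card_JG]; rfl)
  obtain ⟨P, hP⟩ := hp.exists_le_sylow
  refine ⟨P, eq_of_selfNormalizing P.2 hP fun x hx hxn => mem_subgroupOf.2 ?_⟩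
  have hr : (x : G) ∈ B.ι.range := B.mem_range_iff.2 fun v =>
    (mem_normalizer_iff.1 hxn (B.jA v)).1 (jE_mem B v)
  obtain ⟨v, k, p, e, hfix⟩ := range_fixA B hr (mem_centralizer_singleton_iff.1 x.2)
  obtain ⟨n, hn⟩ := P.2 ⟨x, hx⟩
  have hx3 : (x : G) ^ 3 ^ n = 1 := by
    have := congrArg (fun y : (P : Subgroup B.CA) => ((y : B.CA) : G)) hn
    simpa using this
  have hx23 : ((x : G) * x) ^ 3 ^ n = 1 := by rw [(Commute.refl (x : G)).mul_pow, hx3, one_mul]
  refine mem_JG_of_square B (mem_JG_of_square B ?_ hx23) hx3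
  rw [← e, ← map_mul, ← map_mul]
  refine ⟨((mE v k p * mE v k p) * (mE v k p * mE v k p)).1.v, congrArg B.emb (Subtype.ext ?_)⟩
  have hw : ((mE v k p * mE v k p) * (mE v k p * mE v k p)).1.w = 1 := fixA_four k p hfix
  simp only [jE, jM]
  rw [← hw]

theorem sylow_XA [Finite G] : ∃ P : Sylow 3 B.XA, (P : Subgroup B.XA) = B.PA := by
  haveI : Fact (Nat.Prime 3) := ⟨by norm_num⟩
  obtain ⟨P, hP⟩ := sylow_CA B
  exact ⟨P.mapSurjective (QuotientGroup.mk'_surjective B.zA), by rw [Sylow.coe_mapSurjective, hP]; rfl⟩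

theorem range_of_normalizer [Finite G] {g : B.CA}
    (hg : QuotientGroup.mk' B.zA g ∈ normalizer (B.PA : Set B.XA)) : (g : G) ∈ B.ι.range := by
  refine B.mem_range_iff.2 fun u => ?_
  obtain ⟨u', hu'⟩ := (mem_PA B).1 ((mem_normalizer_iff.1 hg _).1 ((mem_PA B).2 ⟨u, rfl⟩))
  obtain ⟨a, ha⟩ := eq_of_kA B (g := g * B.jA u * g⁻¹) (by rw [map_mul, map_mul, map_inv]; exact hu'.symm)
  exact ⟨u' + diagA a, (congrArg Subtype.val ha).symm⟩

theorem normalizer_of_conj [Finite G] {y : B.XA} {v u : V3} (hv : offA v) (hy : y * B.kA v * y⁻¹ = B.kA u) :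
    y ∈ normalizer (B.PA : Set B.XA) := by
  have hu : offA u := (kA_ne_one B).1 fun h => (kA_ne_one B).2 hv (conj_eq_one_iff.1 (hy.trans h))
  have hiff : ∀ z, z ∈ B.PA ↔ y * z * y⁻¹ ∈ B.PA := fun z => by
    conv_lhs => rw [← cent_kA B hv, mem_centralizer_singleton_iff]
    rw [← cent_kA B hu, mem_centralizer_singleton_iff, ← hy]
    constructor
    · intro h
      calc y * z * y⁻¹ * (y * B.kA v * y⁻¹) = y * (z * B.kA v) * y⁻¹ := by group
        _ = y * (B.kA v * z) * y⁻¹ := by rw [h]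
        _ = _ := by group
    · intro h
      calc z * B.kA v = y⁻¹ * (y * z * y⁻¹ * (y * B.kA v * y⁻¹)) * y := by group
        _ = y⁻¹ * (y * B.kA v * y⁻¹ * (y * z * y⁻¹)) * y := by rw [h]
        _ = _ := by group
  exact mem_normalizer_iff.2 hiff

/-- The image of the element of order four. -/
noncomputable def Base.iA (B : Base G) : B.CA :=
  ⟨B.emb i4, mem_centralizer_singleton_iff.2 (by rw [← map_mul, ← map_mul, conj_jE, i4_vals.1])⟩

theorem iA_conj (v : V3) : B.iA * B.jA v * B.iA⁻¹ = B.jA (wact i4.1.w v) :=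
  Subtype.ext (by
    simp only [Subgroup.coe_mul, Subgroup.coe_inv, Base.iA, Base.jA]
    rw [mul_inv_eq_iff_eq_mul, ← map_mul, ← map_mul, conj_jE])

theorem iA_conjX (v : V3) :
    QuotientGroup.mk' B.zA B.iA * B.kA v * (QuotientGroup.mk' B.zA B.iA)⁻¹ = B.kA (wact i4.1.w v) := by
  rw [Base.kA, Base.kA, ← iA_conj, map_mul, map_mul, map_inv]

/-- The normalizer of the group of order nine. -/
theorem normalizer_PA [Finite G] {y : B.XA} (hy : y ∈ normalizer (B.PA : Set B.XA)) :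
    ∃ (v : V3) (m : Fin 4), y = B.kA v * QuotientGroup.mk' B.zA B.iA ^ m.val := by
  obtain ⟨g, rfl⟩ := QuotientGroup.mk'_surjective B.zA y
  obtain ⟨v, k, p, e, hfix⟩ := range_fixA B (range_of_normalizer B hy) (mem_centralizer_singleton_iff.1 g.2)
  obtain ⟨m, hm⟩ := fixA_pow k p hfix
  refine ⟨v, m, ?_⟩
  rw [Base.kA, ← map_pow, ← map_mul]
  refine congrArg _ (Subtype.ext ?_)
  rw [← e, mE_split, hm, map_mul, map_pow, Subgroup.coe_mul, SubmonoidClass.coe_pow]
  rfl

theorem not_isConj_kA [Finite G] : ¬ IsConj (B.kA (0, 1, 0)) (B.kA (0, 1, 1)) := by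
  intro h
  obtain ⟨y, hy⟩ := isConj_iff.1 h
  obtain ⟨g, rfl⟩ := QuotientGroup.mk'_surjective B.zA y
  have hr := range_of_normalizer B (normalizer_of_conj B (by decide : offA (0, 1, 0)) hy)
  obtain ⟨v, k, p, e, hfix⟩ := range_fixA B hr (mem_centralizer_singleton_iff.1 g.2)
  obtain ⟨t, ht⟩ := eq_of_kA B (g := g * B.jA (0, 1, 0) * g⁻¹) (by rw [map_mul, map_mul, map_inv]; exact hy)
  have ht' := congrArg Subtype.val ht
  simp only [Subgroup.coe_mul, Subgroup.coe_inv, Base.jA] at ht'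
  rw [← e, conj_emb] at ht'
  exact fixA_notconj k p t hfix (jE_inj (B.emb_inj ht'))

end Cfsg.Agent.A9Local
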