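import Cfsg.Agent.Lib.A9Local.Model
import Cfsg.Agent.Lib.NineSym.Model

/-!
# The even permutations preserving the three blocks

The model `HM` is the image of the even elements of the model of the permutations preserving three
blocks, and the facts about it that the local analysis uses are finite checks there.
-/

set_option autoImplicit false
set_option maxRecDepth 100000
set_option synthInstance.maxSize 10000

namespace Cfsg.Agent.A9Local

open Equiv Cfsg.Agent.NineSym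

/-- The signed permutation is even. -/
def Ev (w : Wt) : Prop := w.e = decide (3 ≤ w.p.val)

instance : DecidablePred Ev := fun w => inferInstanceAs (Decidable (w.e = decide (3 ≤ w.p.val)))

theorem ev_one : Ev 1 := by decide

theorem ev_mul : ∀ a b : Wt, Ev a → Ev b → Ev (a * b) := by decide +kernel

theorem ev_inv : ∀ a : Wt, Ev a → Ev a⁻¹ := by decide +kernel

/-- The even elements of the model. -/
def Me : Subgroup Mn where
  carrier := {g | Ev g.w}
  one_mem' := ev_one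
  mul_mem' {a b} ha hb := ev_mul a.w b.w ha hb
  inv_mem' {a} ha := ev_inv a.w ha

instance : DecidablePred (· ∈ Me) := fun g => inferInstanceAs (Decidable (Ev g.w))

theorem c_eq : c1 = aP ∧ c2 = bP ∧ c3 = cP ∧ tp = sigP := ⟨rfl, rfl, rfl, rfl⟩

theorem mem_J0 {p : Perm (Fin 9)} : p ∈ J0 ↔ ∃ v, jP v = p := by
  constructor
  · intro h
    refine Subgroup.closure_induction (p := fun p _ => ∃ v, jP v = p) ?_ ⟨0, jP_zero⟩ ?_ ?_ h
    · rintro x (rfl | rfl | rfl)
      · exact ⟨(1, 0, 0), by decide +kernel⟩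
      · exact ⟨(0, 1, 0), by decide +kernel⟩
      · exact ⟨(0, 0, 1), by decide +kernel⟩
    · rintro _ _ _ _ ⟨u, rfl⟩ ⟨v, rfl⟩
      exact ⟨u + v, jP_add u v⟩
    · rintro _ _ ⟨u, rfl⟩
      exact ⟨-u, eq_inv_of_mul_eq_one_left (by rw [← jP_add, neg_add_cancel, jP_zero])⟩
  · rintro ⟨v, rfl⟩
    refine mul_mem (mul_mem (pow_mem ?_ _) (pow_mem ?_ _)) (pow_mem ?_ _) <;>
      apply Subgroup.subset_closure <;> simp [aP, bP, cP]

theorem sign_parts : (∀ v, Perm.sign (jP v) = 1) ∧ Perm.sign iotaP = -1 ∧ (∀ k, Perm.sign (dP k) = 1) ∧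
    ∀ p, Perm.sign (piP p) = if 3 ≤ p.val then -1 else 1 := by
  have ha : Perm.sign aP = 1 ∧ Perm.sign bP = 1 ∧ Perm.sign cP = 1 := by
    refine ⟨?_, ?_, ?_⟩ <;> simp [aP, bP, cP]
  have hs : Perm.sign sigP = 1 ∧ Perm.sign rhoP = -1 := by
    refine ⟨?_, ?_⟩ <;> simp [sigP, rhoP]
  refine ⟨fun v => ?_, by simp [iotaP], fun k => ?_, fun p => ?_⟩
  · simp [jP, map_pow, ha.1, ha.2.1, ha.2.2]
  · fin_cases k <;> simp [dP]
  · fin_cases p <;> simp [piP, hs.1, hs.2]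

theorem sign_elP (g : Mn) : Perm.sign (elP g) = 1 ↔ Ev g.w := by
  obtain ⟨h1, h2, h3, h4⟩ := sign_parts
  obtain ⟨v, e, k, p⟩ := g
  simp only [elP, wP, map_mul, h1, h3, h4, one_mul, mul_one, Ev]
  by_cases hp : 3 ≤ p.val <;> cases e <;> simp [hp, h2]

theorem full_orbit : ∀ v : V3, (∀ i, jP v i ≠ i) → ∃ w : Wt, wact w (1, 1, 1) = v := by
  decide +kernel

theorem x0_no_fix : ∀ i : Fin 9, x0 i ≠ i := by decide +kernel

theorem exists_mn {g : Perm (Fin 9)} (hg : g ∈ Subgroup.normalizer (J0 : Set (Perm (Fin 9)))) :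
    ∃ q : Mn, elP q = g := by
  obtain ⟨v, hv⟩ := mem_J0.1 ((Subgroup.mem_normalizer_iff.1 hg _).1 (mem_J0.2 ⟨(1, 1, 1), rfl⟩))
  have hfix : ∀ i, jP v i ≠ i := fun i h => x0_no_fix (g⁻¹ i) (by
    rw [x0_facts.1]
    rw [hv] at h
    have := congrArg (fun j => g⁻¹ j) h
    simpa using this)
  obtain ⟨w, hw⟩ := full_orbit v hfix
  have h2 : g * x0 = wP w * x0 * (wP w)⁻¹ * g := by
    have h1 : wP w * jP (1, 1, 1) * (wP w)⁻¹ = jP v := by rw [wP_jP, mul_inv_cancel_right, hw]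
    rw [x0_facts.1, h1, hv]; group
  obtain ⟨u, i, hu⟩ := cent_x0 (g := (wP w)⁻¹ * g) (by
    rw [mul_assoc, h2]; group)
  refine ⟨wM w * (jM u * wM ⟨false, 0, i⟩), ?_⟩
  rw [elP_mul, elP_mul]
  have hM : ∀ w, elP (wM w) = wP w := fun w => by rw [elP, wM, jP_zero, one_mul]
  have hp : wP ⟨false, 0, i⟩ = piP i := by simp [wP, dP]
  have hj : elP (jM u) = jP u := by rw [elP, jM, show wP 1 = 1 by decide +kernel, mul_one]
  rw [hM, hM, hj, hp, ← hu, mul_inv_cancel_left]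

theorem wP_one : wP 1 = 1 := by decide +kernel

theorem elP_jM (v : V3) : elP (jM v) = jP v := by rw [elP, jM, wP_one, mul_one]

theorem elP_mem_HM {q : Mn} (hq : q ∈ Me) :
    elP q ∈ alternatingGroup (Fin 9) ⊓ Subgroup.normalizer (J0 : Set (Perm (Fin 9))) := by
  refine ⟨Perm.mem_alternatingGroup.2 ((sign_elP q).2 hq), Subgroup.mem_normalizer_iff.2 fun x => ?_⟩
  have key : ∀ (p : Mn) (x : Perm (Fin 9)), x ∈ J0 → elP p * x * (elP p)⁻¹ ∈ J0 := by
    intro p x hx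
    obtain ⟨v, rfl⟩ := mem_J0.1 hx
    refine mem_J0.2 ⟨wact p.w v, eq_mul_inv_of_mul_eq ?_⟩
    rw [elP, mul_assoc, wP_jP, ← mul_assoc (jP p.v), ← jP_add, ← mul_assoc, ← jP_add, add_comm]
  refine ⟨key q x, fun h => ?_⟩
  have := key q⁻¹ _ h
  rwa [show elP q⁻¹ = (elP q)⁻¹ from map_inv elHom q, inv_inv, show ∀ a b : Perm (Fin 9),
    a⁻¹ * (a * b * a⁻¹) * a = b from fun a b => by group] at this

/-- The isomorphism with the model. -/
def toHM : Me →* HM where
  toFun q := ⟨elP q, elP_mem_HM q.2⟩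
  map_one' := Subtype.ext elP_one
  map_mul' a b := Subtype.ext (elP_mul _ _)

theorem toHM_inj : Function.Injective toHM := fun _ _ h => Subtype.ext (elP_inj (congrArg Subtype.val h))

theorem toHM_surj : Function.Surjective toHM := fun h => by
  obtain ⟨q, hq⟩ := exists_mn h.2.2
  exact ⟨⟨q, (sign_elP q).1 (by rw [hq]; exact Perm.mem_alternatingGroup.1 h.2.1)⟩, Subtype.ext hq⟩

theorem ev_cases : ∀ k : Fin 4, ∀ p : Fin 6, Ev ⟨decide (3 ≤ p.val), k, p⟩ := by decide +kernel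

/-- An element of the group of order 27. -/
def jE (v : V3) : Me := ⟨jM v, ev_one⟩

/-- An even element with given parts. -/
def mE (v : V3) (k : Fin 4) (p : Fin 6) : Me := ⟨⟨v, ⟨decide (3 ≤ p.val), k, p⟩⟩, ev_cases k p⟩

/-- An element of the group of order 81. -/
def sE (v : V3) (i : Fin 3) : Me := mE v 0 ⟨i.val, by omega⟩

theorem mE_surj : ∀ q : Me, ∃ v k p, mE v k p = q := by
  rintro ⟨⟨v, e, k, p⟩, h⟩
  exact ⟨v, k, p, Subtype.ext (by simp only [mE]; rw [show e = decide (3 ≤ p.val) from h])⟩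

theorem toHM_jE (v : V3) : ((toHM (jE v) : HM) : Perm (Fin 9)) = jP v := elP_jM v

theorem toHM_sig : ((toHM (sE 0 1) : HM) : Perm (Fin 9)) = tp := by decide +kernel

theorem card_Me : Nat.card Me = 648 := by
  have e : V3 × Fin 4 × Fin 6 ≃ Me :=
    Equiv.ofBijective (fun t => mE t.1 t.2.1 t.2.2) ⟨fun a b h => by
      have h' : (⟨a.1, ⟨decide (3 ≤ a.2.2.val), a.2.1, a.2.2⟩⟩ : Mn) = ⟨b.1, ⟨decide (3 ≤ b.2.2.val), b.2.1, b.2.2⟩⟩ :=
        congrArg Subtype.val h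
      obtain ⟨h1, -, h2, h3⟩ := by simpa using h'
      exact Prod.ext h1 (Prod.ext h2 h3),
      fun q => by obtain ⟨v, k, p, h⟩ := mE_surj q; exact ⟨(v, k, p), h⟩⟩
  rw [← Nat.card_congr e]
  simp

theorem jE_add (u v : V3) : jE (u + v) = jE u * jE v := Subtype.ext (jM_add u v)

theorem jE_inj : Function.Injective jE := fun _ _ h => congrArg Mn.v (congrArg Subtype.val h)

theorem conj_jE (q : Me) (v : V3) : q * jE v = jE (wact q.1.w v) * q := by
  refine Subtype.ext (elP_inj ?_)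
  rw [Subgroup.coe_mul, Subgroup.coe_mul, jE, jE, elP_mul, elP_mul, elP_jM, elP_jM, elP, mul_assoc, wP_jP,
    ← mul_assoc, ← jP_add, ← mul_assoc, ← jP_add, add_comm]

theorem sE_cases : ∀ (v u : V3) (i j : Fin 3), ∃ k : Fin 3, (sE v i * sE u j).1.w = (sE 0 k).1.w := by
  intro v u i j
  have h : ∀ i j : Fin 3, ∃ k : Fin 3,
      ((⟨decide (3 ≤ i.val), 0, ⟨i.val, by omega⟩⟩ : Wt) * ⟨decide (3 ≤ j.val), 0, ⟨j.val, by omega⟩⟩) =
        ⟨decide (3 ≤ k.val), 0, ⟨k.val, by omega⟩⟩ := by decide +kernel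
  exact h i j

theorem sE_eq : ∀ (v : V3) (i : Fin 3), sE v i = jE v * sE 0 i := by decide +kernel

theorem cent_c_model : ∀ (v : V3) (k : Fin 4) (p : Fin 6), wact ⟨decide (3 ≤ p.val), k, p⟩ (1, 1, 1) = (1, 1, 1) →
    ∃ i : Fin 3, mE v k p = sE v i := by decide +kernel

theorem cent_sig_model : ∀ (v : V3) (k : Fin 4) (p : Fin 6), mE v k p * sE 0 1 = sE 0 1 * mE v k p →
    ∃ (a : ZMod 3) (i : Fin 3), mE v k p = sE (a, a, a) i := by decide +kernel

theorem sig_comm_model : ∀ (a : ZMod 3) (i : Fin 3), sE (a, a, a) i * sE 0 1 = sE 0 1 * sE (a, a, a) i := by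
  decide +kernel

theorem sig_fuse_model : ∀ (a : ZMod 3) (i : Fin 3), i ≠ 0 → ∃ (v : V3) (p : Fin 6),
    mE v 0 p * sE 0 1 = sE (a, a, a) i * mE v 0 p := by decide +kernel

theorem small_cent_model : ∀ (v : V3) (i : Fin 3), i ≠ 0 → ∀ (u : V3) (j : Fin 3),
    sE v i * sE u j = sE u j * sE v i → ∃ (a : ZMod 3) (l : Fin 3),
      sE u j = jE (a, a, a) * (![1, sE v i, sE v i * sE v i] l) := by decide +kernel

end Cfsg.Agent.A9Local
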