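import Cfsg.Agent.Lib.A9Local.Base
import Cfsg.Agent.Lib.A9Local.LocalModel
import Cfsg.Agent.Lib.PLocal.ZJCenterFusion
import Cfsg.Agent.Lib.Transfer.NormalPComplement

/-!
# The Sylow subgroup, the centralizer of the product of the three cycles and of the permuting element
-/

set_option autoImplicit false
set_option linter.style.haveILetI false
set_option maxRecDepth 100000
set_option synthInstance.maxSize 10000

namespace Cfsg.Agent.A9Local

open Subgroup Cfsg.Agent.NineSym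

universe u

variable {G : Type u} [Group G]

/-- The embedding of the even elements of the model. -/
noncomputable def Base.emb (B : Base G) : Me →* G := B.ι.comp toHM

variable (B : Base G)

theorem Base.emb_inj : Function.Injective B.emb := B.inj.comp toHM_inj

theorem Base.emb_range : B.emb.range = B.ι.range := by
  rw [Base.emb, MonoidHom.range_comp, MonoidHom.range_eq_top.2 toHM_surj, MonoidHom.range_eq_map]

theorem Base.emb_mem (q : Me) : B.emb q ∈ B.ι.range := ⟨_, rfl⟩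

theorem Base.emb_iota {h : HM} {q : Me} (e : (h : Equiv.Perm (Fin 9)) = elP q) : B.ι h = B.emb q :=
  congrArg B.ι (Subtype.ext e)

theorem Base.iota_jE {h : HM} {v : V3} (e : (h : Equiv.Perm (Fin 9)) = jP v) : B.ι h = B.emb (jE v) :=
  B.emb_iota (e.trans (elP_jM v).symm)

theorem Base.cores_emb {q : Me} (hq : q ≠ 1) (h3 : q ^ 3 = 1) :
    Cfsg.pPrimeCore 3 (centralizer ({B.emb q} : Set G)) = ⊥ :=
  B.cores (toHM q) (orderOf_eq_prime (by rw [← map_pow, h3, map_one])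
    fun h => hq (toHM_inj (h.trans (map_one _).symm)))

theorem jE_cube : ∀ v : V3, jE v ^ 3 = 1 := by decide +kernel

theorem jE_zero : jE 0 = 1 := rfl

theorem jE_ne : ∀ v : V3, v ≠ 0 → jE v ≠ 1 := fun _ h e => h (jE_inj (e.trans jE_zero.symm))

/-- The image of the group of order 27. -/
noncomputable def Base.JG : Subgroup G where
  carrier := {g | ∃ v, B.emb (jE v) = g}
  one_mem' := ⟨0, by rw [jE_zero, map_one]⟩
  mul_mem' := by
    rintro _ _ ⟨u, rfl⟩ ⟨v, rfl⟩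
    exact ⟨u + v, by rw [jE_add, map_mul]⟩
  inv_mem' := by
    rintro _ ⟨u, rfl⟩
    exact ⟨-u, eq_inv_of_mul_eq_one_left (by rw [← map_mul, ← jE_add, neg_add_cancel, jE_zero, map_one])⟩

theorem jE_mem (v : V3) : B.emb (jE v) ∈ B.JG := ⟨v, rfl⟩

theorem Base.mem_range_iff {g : G} : g ∈ B.ι.range ↔ ∀ v, g * B.emb (jE v) * g⁻¹ ∈ B.JG := by
  rw [B.norm]
  constructor
  · intro h v
    obtain ⟨h', hh', e⟩ := h (toHM (jE v)) (mem_J0.2 ⟨v, (toHM_jE v).symm⟩)
    obtain ⟨w, hw⟩ := mem_J0.1 hh'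
    exact ⟨w, by rw [← B.iota_jE hw.symm]; exact e.symm⟩
  · intro h x hx
    obtain ⟨v, hv⟩ := mem_J0.1 hx
    obtain ⟨w, hw⟩ := h v
    exact ⟨toHM (jE w), mem_J0.2 ⟨w, (toHM_jE w).symm⟩, by rw [B.iota_jE hv.symm]; exact hw.symm⟩

theorem normalizer_JG_le : normalizer (B.JG : Set G) ≤ B.ι.range := fun _ hg =>
  B.mem_range_iff.2 fun v => (mem_normalizer_iff.1 hg _).1 (jE_mem B v)

theorem JG_comm {a b : G} (ha : a ∈ B.JG) (hb : b ∈ B.JG) : a * b = b * a := by
  obtain ⟨u, rfl⟩ := ha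
  obtain ⟨v, rfl⟩ := hb
  rw [← map_mul, ← map_mul, ← jE_add, ← jE_add, add_comm]

theorem card_JG : Nat.card B.JG = 27 := by
  rw [← Nat.card_congr (Equiv.ofBijective (fun v : V3 => (⟨_, jE_mem B v⟩ : B.JG))
    ⟨fun u v h => jE_inj (B.emb_inj (congrArg Subtype.val h)), fun ⟨g, v, hv⟩ => ⟨v, Subtype.ext hv⟩⟩)]
  simp

theorem sE_fix : ∀ v : V3, sE v 0 = jE v := by decide +kernel

theorem sE_zero_mul : ∀ i j : Fin 3, sE 0 i * sE 0 j = sE 0 (i + j) := by decide +kernel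

theorem sE_mul (v u : V3) (i j : Fin 3) : ∃ w, sE v i * sE u j = sE w (i + j) := by
  refine ⟨v + wact (sE 0 i).1.w u, ?_⟩
  rw [sE_eq v i, sE_eq u j, mul_assoc, ← mul_assoc (sE 0 i) (jE u), conj_jE, mul_assoc, ← mul_assoc (jE v),
    ← jE_add, sE_zero_mul, ← sE_eq]

theorem sE_inv (v : V3) (i : Fin 3) : ∃ w, (sE v i)⁻¹ = sE w (-i) := by
  refine ⟨wact (sE 0 (-i)).1.w (-v), inv_eq_of_mul_eq_one_left ?_⟩
  rw [sE_eq v i, sE_eq _ (-i), ← conj_jE, mul_assoc, ← mul_assoc (jE (-v)), ← jE_add, neg_add_cancel, jE_zero,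
    one_mul, sE_zero_mul, neg_add_cancel, sE_fix, jE_zero]

/-- The image of the group of order 81. -/
noncomputable def Base.SG : Subgroup G where
  carrier := {g | ∃ v i, B.emb (sE v i) = g}
  one_mem' := ⟨0, 0, by rw [sE_fix, jE_zero, map_one]⟩
  mul_mem' := by
    rintro _ _ ⟨v, i, rfl⟩ ⟨u, j, rfl⟩
    obtain ⟨w, hw⟩ := sE_mul v u i j
    exact ⟨w, i + j, by rw [← hw, map_mul]⟩
  inv_mem' := by
    rintro _ ⟨v, i, rfl⟩
    obtain ⟨w, hw⟩ := sE_inv v i
    exact ⟨w, -i, by rw [← hw, map_inv]⟩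

theorem sE_inj {v u : V3} {i j : Fin 3} (h : sE v i = sE u j) : v = u ∧ i = j := by
  have h1 := congrArg (fun q : Me => q.1.v) h
  have h2 := congrArg (fun q : Me => q.1.w.p.val) h
  exact ⟨h1, Fin.ext h2⟩

theorem card_SG : Nat.card B.SG = 81 := by
  rw [← Nat.card_congr (Equiv.ofBijective (fun t : V3 × Fin 3 => (⟨_, t.1, t.2, rfl⟩ : B.SG))
    ⟨fun a b h => Prod.ext (sE_inj (B.emb_inj (congrArg Subtype.val h))).1
      (sE_inj (B.emb_inj (congrArg Subtype.val h))).2,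
    fun ⟨g, v, i, hg⟩ => ⟨(v, i), Subtype.ext hg⟩⟩)]
  simp

theorem JG_le_SG : B.JG ≤ B.SG := fun _ ⟨v, hv⟩ => ⟨v, 0, by rw [sE_fix, hv]⟩

theorem SG_le_range : B.SG ≤ B.ι.range := fun _ ⟨_, _, hg⟩ => hg ▸ B.emb_mem _

theorem card_range : Nat.card B.ι.range = 648 := by
  rw [← B.emb_range, ← Nat.card_congr (MonoidHom.ofInjective B.emb_inj).toEquiv, card_Me]

/-- Commuting families in the group of order 81 of more than nine elements lie in the group of order 27. -/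
theorem mem_JG_of_comm [Finite G] (A : Set G) (hA : ∀ a ∈ A, a ∈ B.SG) (hc : ∀ a ∈ A, ∀ b ∈ A, a * b = b * a)
    (h9 : 9 < Nat.card A) {a : G} (ha : a ∈ A) : a ∈ B.JG := by
  obtain ⟨v, i, rfl⟩ := hA a ha
  by_contra hJ
  have hi : i ≠ 0 := fun e => hJ ⟨v, by rw [e, sE_fix]⟩
  have hsub : A ⊆ Set.range fun t : ZMod 3 × Fin 3 =>
      B.emb (jE (t.1, t.1, t.1) * ![1, sE v i, sE v i * sE v i] t.2) := by
    intro b hb
    obtain ⟨u, j, rfl⟩ := hA b hb
    obtain ⟨x, l, hx⟩ := small_cent_model v i hi u j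
      (B.emb_inj (by rw [map_mul, map_mul]; exact hc _ ha _ hb))
    exact ⟨(x, l), by rw [hx]⟩
  have h1 := Nat.card_le_card_of_injective _ (Set.inclusion_injective hsub)
  have h2 := Finite.card_range_le fun t : ZMod 3 × Fin 3 =>
    B.emb (jE (t.1, t.1, t.1) * ![1, sE v i, sE v i * sE v i] t.2)
  rw [show Nat.card (ZMod 3 × Fin 3) = 9 by simp] at h2
  omega

theorem normalizer_SG_le [Finite G] : normalizer (B.SG : Set G) ≤ B.ι.range := by
  refine fun g hg => B.mem_range_iff.2 fun v =>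
    mem_JG_of_comm B (Set.range fun u => g * B.emb (jE u) * g⁻¹) ?_ ?_ ?_ ⟨v, rfl⟩
  · rintro _ ⟨u, rfl⟩
    exact (mem_normalizer_iff.1 hg _).1 (JG_le_SG B (jE_mem B u))
  · rintro _ ⟨u, rfl⟩ _ ⟨w, rfl⟩
    show g * _ * g⁻¹ * (g * _ * g⁻¹) = g * _ * g⁻¹ * (g * _ * g⁻¹)
    have := JG_comm B (jE_mem B u) (jE_mem B w)
    simp only [mul_assoc, inv_mul_cancel_left]
    rw [← mul_assoc (B.emb (jE u)), this, mul_assoc]
  · rw [← Nat.card_congr (Equiv.ofInjective (fun u => g * B.emb (jE u) * g⁻¹)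
      fun u w h => jE_inj (B.emb_inj (mul_left_cancel (mul_right_cancel h))))]
    simp

theorem isPGroup_SG : IsPGroup 3 B.SG := IsPGroup.of_card (n := 4) (by rw [card_SG]; rfl)

theorem eq_SG_of_pGroup [Finite G] (P : Subgroup G) (hP : IsPGroup 3 P) (hS : B.SG ≤ P) : P = B.SG := by
  haveI : Fact (Nat.Prime 3) := ⟨by norm_num⟩
  by_contra hne
  haveI := hP.isNilpotent
  have hlt : (B.SG.subgroupOf P) < ⊤ := lt_top_iff_ne_top.2 fun h =>
    hne (le_antisymm (subgroupOf_eq_top.1 h) hS)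
  obtain ⟨⟨x, hxP⟩, hxn, hxS⟩ := SetLike.exists_of_lt (Group.normalizerCondition_of_isNilpotent _ hlt)
  have hxN : x ∈ normalizer (B.SG : Set G) := mem_normalizer_iff.2 fun y => by
    constructor
    · intro hy
      exact (mem_normalizer_iff.1 hxn ⟨y, hS hy⟩).1 hy
    · intro hy
      have hyP : y ∈ P := by
        have := P.mul_mem (P.mul_mem (P.inv_mem hxP) (hS hy)) hxP
        rwa [show x⁻¹ * (x * y * x⁻¹) * x = y by group] at this
      exact (mem_normalizer_iff.1 hxn ⟨y, hyP⟩).2 hy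
  obtain ⟨k, hk⟩ := (hP.to_le (inf_le_left : P ⊓ B.ι.range ≤ P)).exists_card_eq
  have hle : k ≤ 4 := by
    by_contra h
    have h5 : 3 ^ 5 ∣ Nat.card (P ⊓ B.ι.range : Subgroup G) := hk ▸ pow_dvd_pow 3 (by omega)
    have := h5.trans (card_dvd_of_le (inf_le_right : P ⊓ B.ι.range ≤ B.ι.range))
    rw [card_range] at this
    norm_num at this
  have heq : B.SG = P ⊓ B.ι.range := eq_of_le_of_card_ge (le_inf hS (SG_le_range B)) (by
    rw [hk, card_SG]; exact (Nat.pow_le_pow_right (by norm_num) hle).trans (by norm_num))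
  exact hxS (show x ∈ B.SG from heq ▸ ⟨hxP, normalizer_SG_le B hxN⟩)

theorem exists_sylow [Finite G] : ∃ P : Sylow 3 G, (P : Subgroup G) = B.SG := by
  obtain ⟨P, hP⟩ := (isPGroup_SG B).exists_le_sylow
  exact ⟨P, eq_SG_of_pGroup B P P.2 hP⟩

theorem sylow [Finite G] : ¬ 3 ∣ B.ι.range.index := fun h => by
  haveI : Fact (Nat.Prime 3) := ⟨by norm_num⟩
  obtain ⟨P, hP⟩ := exists_sylow B
  refine P.not_dvd_index ?_
  rw [hP]
  exact h.trans (index_dvd_of_le (SG_le_range B))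

/-- A subgroup with trivial `3'`-core and a normal complement is its Sylow subgroup. -/
theorem eq_of_complement [Finite G] {Y S : Subgroup G} (hcore : Cfsg.pPrimeCore 3 Y = ⊥)
    (h : Cfsg.HasNormalPComplement 3 Y) (hSY : S ≤ Y)
    (hmax : ∀ P : Subgroup G, IsPGroup 3 P → S ≤ P → P ≤ Y → P = S) : Y = S := by
  haveI : Fact (Nat.Prime 3) := ⟨by norm_num⟩
  obtain ⟨k, hk⟩ := Cfsg.Agent.Transfer.NormalPComplement.hasNormalPComplement_iff_pPrimeCore.1 h
  rw [hcore, index_bot] at hk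
  exact hmax Y (IsPGroup.of_card hk) hSY le_rfl

theorem range_comm {g : G} {q : Me} (hg : g ∈ B.ι.range) (h : g * B.emb q = B.emb q * g) :
    ∃ p : Me, B.emb p = g ∧ p * q = q * p := by
  rw [← B.emb_range] at hg
  obtain ⟨p, rfl⟩ := hg
  exact ⟨p, rfl, B.emb_inj (by rw [map_mul, map_mul, h])⟩

theorem c_central : ∀ (v : V3) (i : Fin 3), sE v i * jE (1, 1, 1) = jE (1, 1, 1) * sE v i := by decide +kernel

theorem SG_le_cent : B.SG ≤ centralizer ({B.emb (jE (1, 1, 1))} : Set G) := by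
  rintro _ ⟨v, i, rfl⟩
  rw [mem_centralizer_singleton_iff, ← map_mul, ← map_mul, c_central]

theorem mem_SG_of_cent {g : G} (hg : g ∈ B.ι.range) (h : g * B.emb (jE (1, 1, 1)) = B.emb (jE (1, 1, 1)) * g) :
    g ∈ B.SG := by
  obtain ⟨p, rfl, hp⟩ := range_comm B hg h
  obtain ⟨v, k, i, rfl⟩ := mE_surj p
  rw [conj_jE] at hp
  obtain ⟨j, hj⟩ := cent_c_model v k i (jE_inj (mul_right_cancel hp))
  exact ⟨v, j, by rw [hj]⟩

theorem thompson_SG [Finite G] : Cfsg.thompsonSubgroupOf 3 B.SG = B.JG := by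
  have hJ : Cfsg.IsElementaryAbelian 3 (B.JG.subgroupOf B.SG) := by
    refine ⟨⟨⟨fun a b => Subtype.ext (Subtype.ext ?_)⟩⟩, fun a ha => Subtype.ext ?_⟩
    · exact JG_comm B (mem_subgroupOf.1 a.2) (mem_subgroupOf.1 b.2)
    · obtain ⟨v, hv⟩ := mem_subgroupOf.1 ha
      rw [SubmonoidClass.coe_pow, ← hv, ← map_pow, jE_cube, map_one]
      rfl
  have hcard : Nat.card (B.JG.subgroupOf B.SG) = 27 := by
    rw [Nat.card_congr (subgroupOfEquivOfLe (JG_le_SG B)).toEquiv, card_JG]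
  have hle : ∀ A : Subgroup B.SG, IsMulCommutative A → 9 < Nat.card A → A ≤ B.JG.subgroupOf B.SG := by
    intro A hA h9 a ha
    refine mem_subgroupOf.2 (mem_JG_of_comm B (Subtype.val '' (A : Set B.SG)) ?_ ?_ ?_ ⟨a, ha, rfl⟩)
    · rintro _ ⟨x, -, rfl⟩
      exact x.2
    · rintro _ ⟨x, hx, rfl⟩ _ ⟨y, hy, rfl⟩
      exact congrArg Subtype.val (congrArg Subtype.val (hA.1.comm ⟨x, hx⟩ ⟨y, hy⟩))
    · rwa [Nat.card_image_of_injective Subtype.val_injective]
  have heq : Cfsg.thompsonSubgroup 3 B.SG = B.JG.subgroupOf B.SG := by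
    refine le_antisymm (sSup_le fun A hA => hle A hA.1.1 ?_) (le_sSup ⟨hJ, fun A hA => ?_⟩)
    · have := hA.2 _ hJ
      omega
    · by_contra h
      rw [hcard] at h
      have := card_le_of_le (hle A hA.1 (by omega))
      omega
  rw [Cfsg.thompsonSubgroupOf, heq, subgroupOf_map_subtype, inf_eq_left.2 (JG_le_SG B)]

theorem c123_eq : c1 * c2 * c3 = jP (1, 1, 1) := by decide +kernel

theorem c_ne : ((1, 1, 1) : V3) ≠ 0 := by decide

theorem cent_c [Finite G] {h : HM} (hh : (h : Equiv.Perm (Fin 9)) = c1 * c2 * c3) :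
    centralizer ({B.ι h} : Set G) ≤ B.ι.range := by
  haveI : Fact (Nat.Prime 3) := ⟨by norm_num⟩
  rw [B.iota_jE (hh.trans c123_eq)]
  set Y := centralizer ({B.emb (jE (1, 1, 1))} : Set G) with hY
  obtain ⟨P, hP⟩ := exists_sylow B
  have hPY : (P : Subgroup G) ≤ Y := hP ▸ SG_le_cent B
  have hJS : Cfsg.centerThompsonOf 3 ((P.subtype hPY : Sylow 3 Y) : Subgroup Y) = B.JG.subgroupOf Y := by
    have hS : ((P.subtype hPY : Sylow 3 Y) : Subgroup Y) = B.SG.subgroupOf Y := by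
      rw [Sylow.coe_subtype, hP]
    have hth : Cfsg.thompsonSubgroupOf 3 ((P.subtype hPY : Sylow 3 Y) : Subgroup Y) = B.JG.subgroupOf Y := by
      refine map_injective Y.subtype_injective ?_
      rw [Cfsg.Agent.PLocal.ThompsonSubgroup.map_thompsonSubgroupOf Y.subtype_injective, hS, subgroupOf_map_subtype,
        inf_eq_left.2 (SG_le_cent B), subgroupOf_map_subtype, inf_eq_left.2 ((JG_le_SG B).trans (SG_le_cent B)),
        thompson_SG]
    rw [Cfsg.centerThompsonOf, hth, inf_eq_left]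
    intro a ha b hb
    exact Subtype.ext (JG_comm B (mem_subgroupOf.1 hb) (mem_subgroupOf.1 ha))
  have hN : Cfsg.HasNormalPComplement 3
      ↥(normalizer (Cfsg.centerThompsonOf 3 ((P.subtype hPY : Sylow 3 Y) : Subgroup Y) : Set Y)) := by
    rw [hJS]
    refine Cfsg.Agent.Transfer.NormalPComplement.hasNormalPComplement_iff_exists.2
      ⟨⊥, inferInstance, by simp, ?_⟩
    have hle : normalizer ((B.JG.subgroupOf Y : Subgroup Y) : Set Y) ≤ B.SG.subgroupOf Y := by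
      intro x hx
      refine mem_subgroupOf.2 (mem_SG_of_cent B (B.mem_range_iff.2 fun v => ?_) (mem_centralizer_singleton_iff.1 x.2))
      exact (mem_normalizer_iff.1 hx ⟨_, SG_le_cent B (JG_le_SG B (jE_mem B v))⟩).1 (mem_subgroupOf.2 (jE_mem B v))
    obtain ⟨k, hk⟩ := (IsPGroup.to_le ((isPGroup_SG B).of_equiv (subgroupOfEquivOfLe (SG_le_cent B)).symm) hle).exists_card_eq
    exact ⟨k, by rw [index_bot, hk]⟩
  have hY' := eq_of_complement (S := B.SG) (B.cores_emb (jE_ne _ c_ne) (jE_cube _))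
    (Cfsg.Agent.PLocal.ZJCenterFusion.hasNormalPComplement (by norm_num) _ hN) (SG_le_cent B)
    fun Q hQ hle _ => eq_SG_of_pGroup B Q hQ hle
  exact hY'.le.trans (SG_le_range B)

end Cfsg.Agent.A9Local
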